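import Groth.Agent.Cohder.RDInt
import Groth.Agent.Cohder.RDPlusAcyc

/-!
# Formal lemmas on complexes of acyclic objects

* `nonempty_homology_iso`: the right derived functors computed by an acyclic resolution indexed by `ℤ`;
* `quasiIso_natTrans`: a natural transformation between exact functors which is an isomorphism on the
  homology objects of a complex is a quasi-isomorphism on the complex.
-/

set_option autoImplicit false

universe v u v' u'

open CategoryTheory Category Limits HomologicalComplex

namespace Groth.Agent.UnramA.LAFormal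

open Groth.Agent.Cohder.RDAcyc

variable {C : Type u} [Category.{v} C] [Abelian C] {D : Type u'} [Category.{v'} D] [Abelian D]

theorem nonempty_homology_iso [EnoughInjectives C] (F : C ⥤ D) [F.Additive]
    [PreservesFiniteLimits F] (X : C) (E : CochainComplex C ℤ) (n₀ : ℤ) [E.IsStrictlyGE n₀]
    (a : (HomologicalComplex.single C (ComplexShape.up ℤ) 0).obj X ⟶ E) [QuasiIso a]
    (hE : ∀ m, IsAcyc F (E.X m)) (q : ℕ) (m : ℤ) (hm : (q : ℤ) = m) :
    Nonempty (((F.mapHomologicalComplex (ComplexShape.up ℤ)).obj E).homology m ≅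
      (F.rightDerived q).obj X) := by
  obtain ⟨J, i, hi, hJ, hGE⟩ :=
    CochainComplex.Plus.modelCategoryQuillen.exists_quasiIso_injective E n₀
  have : J.IsKInjective := CochainComplex.isKInjective_of_injective J n₀
  have h1 : QuasiIso ((F.mapHomologicalComplex (ComplexShape.up ℤ)).map i) :=
    Groth.Agent.Cohder.RDPlusAcyc.quasiIso_map F i n₀ n₀ hE fun p => isAcyc_injective F _
  have h2 : QuasiIso (a ≫ i) := quasiIso_comp a i
  let b : (CochainComplex.singleFunctor C 0).obj X ⟶ J := a ≫ i
  have hb : QuasiIso b := h2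
  exact ⟨asIso (homologyMap ((F.mapHomologicalComplex (ComplexShape.up ℤ)).map i) m) ≪≫
    (Groth.Agent.Cohder.RDInt.isoH F b q m hm).symm⟩

theorem quasiIso_natTrans {F G : C ⥤ D} [F.Additive] [G.Additive] [PreservesFiniteLimits F]
    [PreservesFiniteColimits F] [PreservesFiniteLimits G] [PreservesFiniteColimits G]
    (τ : F ⟶ G) (K : CochainComplex C ℤ) (h : ∀ m, IsIso (τ.app (K.homology m))) :
    QuasiIso ((NatTrans.mapHomologicalComplex τ (ComplexShape.up ℤ)).app K) := by
  rw [quasiIso_iff]
  intro m
  rw [quasiIsoAt_iff_isIso_homologyMap]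
  have h1 := NatTrans.app_homology τ (K.sc m)
  have h2 := h m
  change IsIso (ShortComplex.homologyMap ((K.sc m).mapNatTrans τ))
  have h3 : ShortComplex.homologyMap ((K.sc m).mapNatTrans τ) =
      ((K.sc m).mapHomologyIso F).hom ≫ τ.app (K.sc m).homology ≫
        ((K.sc m).mapHomologyIso G).inv := by
    rw [h1]; simp
  rw [h3]
  have h4 : IsIso (τ.app (K.sc m).homology) := h2
  infer_instance

end Groth.Agent.UnramA.LAFormal
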