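import Groth.Agent.Etalg.LACoreB1
import Groth.Agent.UnramA.LAFormal810
import Groth.Agent.EtpbcB.BCCalc
import Groth.Agent.EtpbcB.NKillEt
import Groth.Agent.Etcore.PushPoint
import Groth.Agent.Etrest.ConstBasic
import Groth.Agent.EtpbcA.PullFLC

/-!
# The direct image of `E ⟶ eps_* I` on the base

For a proper `f : X ⟶ S`, a geometric point `t` of `S` and the geometric fibre `eps : Y ⟶ X`, let `E` be a
resolution of `F` and `I` a resolution of `eps⁻¹ E` by sheaves killed by `n` and injective among these. If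
all `R^i f_* F` are finite locally constant and `ξ⁻¹(G ⟶ t_* t⁻¹ G)` is an isomorphism for such sheaves `G`,
then `ξ⁻¹ f_*(E ⟶ eps_* I)` is a quasi-isomorphism.
-/

set_option autoImplicit false
universe u

open CategoryTheory CategoryTheory.Limits AlgebraicGeometry Opposite

namespace Groth.Agent.UnramA.LAPhi

open Groth.Agent.Cohder.RDAcyc Groth.Agent.Etalg.LACoreB Groth.Agent.EtpbcB

/-- The proper base change theorem. -/
def PBC0 : Prop :=
  ∀ (X Y X' Y' : Scheme.{u}) (f : X ⟶ Y) (g : Y' ⟶ Y)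
    (f' : X' ⟶ Y') (g' : X' ⟶ X) (h : IsPullback g' f' f g) [IsProper f]
    (F : EtCoh.Ab X) (_ : EtCoh.IsTorsion F),
    (∀ q : ℕ, Nonempty ((EtCoh.pull g).obj ((EtCoh.Rpush f q).obj F) ≅
      (EtCoh.Rpush f' q).obj ((EtCoh.pull g').obj F))) ∧
    IsIso (EtCoh.baseChange0 f g f' g' h.w F)

variable {X Y S : Scheme.{u}}

theorem quasiIso_push (hP : PBC0.{u}) (f : X ⟶ S) [IsProper f] {Ω : Type u} [Field Ω]
    [IsSepClosed Ω] (t : Spec (CommRingCat.of Ω) ⟶ S) (eps : Y ⟶ X)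
    (ft : Y ⟶ Spec (CommRingCat.of Ω)) (sq : IsPullback eps ft f t) {n : ℕ} (hn : 0 < n)
    (F : EtCoh.Ab X) (hlc : ∀ i : ℕ, EtCoh.IsFiniteLocallyConstant ((EtCoh.Rpush f i).obj F))
    (E : CochainComplex (EtCoh.Ab X) ℤ) [E.IsStrictlyGE 0]
    (a : (HomologicalComplex.single (EtCoh.Ab X) (ComplexShape.up ℤ) 0).obj F ⟶ E) [QuasiIso a]
    (hE : ∀ m, NKill.Killed n (E.X m) ∧ NKill.NInj n (E.X m))
    (I : CochainComplex (EtCoh.Ab Y) ℤ) [I.IsStrictlyGE 0]
    (i : ((EtCoh.pull eps).mapHomologicalComplex (ComplexShape.up ℤ)).obj E ⟶ I) [QuasiIso i]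
    (hI : ∀ m, NKill.Killed n (I.X m) ∧ NKill.NInj n (I.X m)) {Z : Scheme.{u}} (ξ : Z ⟶ S)
    (hU : ∀ G : EtCoh.Ab S, EtCoh.IsFiniteLocallyConstant G →
      IsIso ((EtCoh.pull ξ).map ((EtCoh.pullPushAdj t).unit.app G))) :
    QuasiIso (((EtCoh.pull ξ).mapHomologicalComplex (ComplexShape.up ℤ)).map
      (((EtCoh.push f).mapHomologicalComplex (ComplexShape.up ℤ)).map
        (unitC (EtCoh.pullPushAdj eps) E ≫
          ((EtCoh.push eps).mapHomologicalComplex (ComplexShape.up ℤ)).map i))) := by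
  have hT : ∀ m, EtCoh.IsTorsion (E.X m) := fun m =>
    Groth.Agent.Etrest.ConstBasic.isTorsion_of_killedBy hn ((NKillEt.killedBy_iff n _).2 (hE m).1)
  have pf : ∀ {A B : Scheme.{u}} (g : A ⟶ B), PreservesFiniteLimits (EtCoh.pull g) :=
    fun g => Groth.Agent.S0101.result g
  have pc : ∀ {A B : Scheme.{u}} (g : A ⟶ B), PreservesFiniteColimits (EtCoh.pull g) := fun g => by
    have : PreservesColimitsOfSize.{0, 0} (EtCoh.pull g) :=
      (EtCoh.pullPushAdj g).leftAdjoint_preservesColimits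
    exact PreservesColimitsOfSize.preservesFiniteColimits _
  have i1 := pf ξ
  have i2 := pc ξ
  have i3 := pf t
  have i4 := pc t
  have i5 : PreservesFiniteColimits (EtCoh.push t) :=
    Groth.Agent.Etcore.PushPoint.preservesFiniteColimits_push t
  refine quasiIso_map_push (EtCoh.pullPushAdj eps) (EtCoh.push f) (EtCoh.push ft)
    (EtCoh.pullPushAdj t) (EtCoh.pull ξ) (BCCalc.sq sq.w) (BCCalc.bcNat sq.w)
    (fun G => (BCCalc.unit_baseChange0 sq.w G).symm) E I i
    (fun m => (hP _ _ _ _ f t ft eps sq (E.X m) (hT m)).2) ?_ ?_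
  · have j1 : CochainComplex.IsStrictlyGE
        (((EtCoh.pull eps).mapHomologicalComplex (ComplexShape.up ℤ)).obj E) 0 := inferInstance
    refine Groth.Agent.Cohder.RDPlusAcyc.quasiIso_map (EtCoh.push ft) i 0 0 ?_ ?_
    · intro p q hq
      obtain ⟨e⟩ := (hP _ _ _ _ f t ft eps sq (E.X p) (hT p)).1 q
      refine IsZero.of_iso ?_ e.symm
      exact (EtCoh.pull t).map_isZero (NKillEt.isZero_Rpush_of_nInj f hn
        ((NKillEt.killedBy_iff n _).2 (hE p).1) (hE p).2 q hq)
    · intro p q hq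
      exact NKillEt.isZero_Rpush_of_nInj ft hn
        ((NKillEt.killedBy_iff n _).2 (hI p).1) (hI p).2 q hq
  · intro m
    rcases lt_or_ge m 0 with hm | hm
    · have h0 : IsZero ((((EtCoh.push f).mapHomologicalComplex (ComplexShape.up ℤ)).obj E).homology m) := by
        have h1 : IsZero ((((EtCoh.push f).mapHomologicalComplex (ComplexShape.up ℤ)).obj E).X m) :=
          (EtCoh.push f).map_isZero (E.isZero_of_isStrictlyGE 0 m hm)
        exact (HomologicalComplex.ExactAt.of_isZero h1).isZero_homology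
      have h1 := (EtCoh.pullPushAdj t).unit.app
        ((((EtCoh.push f).mapHomologicalComplex (ComplexShape.up ℤ)).obj E).homology m)
      have h2 := (EtCoh.pull ξ).map_isZero h0
      have h3 := (EtCoh.pull ξ).map_isZero ((EtCoh.push t).map_isZero ((EtCoh.pull t).map_isZero h0))
      exact ⟨0, h2.eq_of_src _ _, h3.eq_of_src _ _⟩
    · obtain ⟨q, rfl⟩ := Int.eq_ofNat_of_zero_le hm
      obtain ⟨e⟩ := LAFormal.nonempty_homology_iso (EtCoh.push f) F E 0 a (fun p q hq =>
        NKillEt.isZero_Rpush_of_nInj f hn ((NKillEt.killedBy_iff n _).2 (hE p).1) (hE p).2 q hq)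
        q (q : ℤ) rfl
      exact hU _ (Groth.Agent.EtpbcA.PullFLC.isFLC_of_iso e.symm (hlc q))

end Groth.Agent.UnramA.LAPhi
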