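import Groth.Agent.CurvesB.EtaleCompl
import Groth.Agent.CalgB.RegHom7
import Groth.Agent.Ega4C.GeomCompReg
import Groth.Agent.S0543
import Groth.Prelude.Def_CAlgX

/-!
# Completions of local rings: transport along `R → R_m`, adic formal smoothness

* `isRegularHom_cpl_localization_iff`: for a Noetherian local ring `R` and a maximal ideal `m`,
  `R_m → (R_m)^` is regular iff `R → R^` is.
* `isAdicFormallySmooth_cpl`: for a local homomorphism `R → S` of Noetherian local rings which is
  formally smooth, `S^` is formally smooth over `R^` for the maximal-adic topology.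
-/

set_option autoImplicit false

universe u

open IsLocalRing

namespace Groth.Agent.UnramA.GRingCpl

/-- The completion of a local ring, short notation. -/
abbrev Cpl (R : Type u) [CommRing R] [IsLocalRing R] : Type u := AdicCompletion (maximalIdeal R) R

theorem exists_cpl_equiv_localization (R : Type u) [CommRing R] [IsLocalRing R] (m : Ideal R)
    [hm : m.IsMaximal] :
    ∃ e : Cpl R ≃+* Cpl (Localization.AtPrime m),
      ∀ a, e (algebraMap R _ a) = algebraMap (Localization.AtPrime m) _
        (algebraMap R (Localization.AtPrime m) a) := by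
  have hmR : m = maximalIdeal R := IsLocalRing.eq_maximalIdeal hm
  have hloc : IsLocalHom (algebraMap R (Localization.AtPrime m)) := by
    refine ((IsLocalRing.local_hom_TFAE _).out 0 2).mpr ?_
    rw [← hmR, Localization.AtPrime.map_eq_maximalIdeal]
  refine Groth.Agent.CurvesB.EtaleCompl.exists_completion_ringEquiv_of_flat ?_ ?_
  · rw [← hmR, Localization.AtPrime.map_eq_maximalIdeal]
  · intro b
    obtain ⟨⟨a, s⟩, h⟩ := IsLocalization.surj m.primeCompl b
    have hs : IsUnit (s : R) := by
      by_contra h1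
      exact s.2 (hmR.ge ((IsLocalRing.mem_maximalIdeal _).mpr h1))
    obtain ⟨u, hu⟩ := hs
    refine ⟨a * ↑u⁻¹, ?_⟩
    have h2 : b = algebraMap R _ (a * ↑u⁻¹) := by
      have h3 : algebraMap R (Localization.AtPrime m) s *
          algebraMap R (Localization.AtPrime m) ↑u⁻¹ = 1 := by
        rw [← map_mul, ← hu, Units.mul_inv, map_one]
      calc b = b * (algebraMap R (Localization.AtPrime m) s *
          algebraMap R (Localization.AtPrime m) ↑u⁻¹) := by rw [h3, mul_one]
        _ = (b * algebraMap R (Localization.AtPrime m) s) *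
          algebraMap R (Localization.AtPrime m) ↑u⁻¹ := by ring
        _ = _ := by rw [h, ← map_mul]
    rw [← h2, sub_self]
    exact Ideal.zero_mem _

theorem isRegularHom_cpl_localization_iff (R : Type u) [CommRing R] [IsLocalRing R]
    [IsNoetherianRing R] (m : Ideal R) [hm : m.IsMaximal] :
    CAlg.IsRegularHom (Localization.AtPrime m) (Cpl (Localization.AtPrime m)) ↔
      CAlg.IsRegularHom R (Cpl R) := by
  obtain ⟨e, he⟩ := exists_cpl_equiv_localization R m
  have : IsScalarTower R (Localization.AtPrime m) (Cpl (Localization.AtPrime m)) :=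
    IsScalarTower.of_algebraMap_eq fun a => rfl
  let e' : Cpl R ≃ₐ[R] Cpl (Localization.AtPrime m) :=
    AlgEquiv.ofRingEquiv (f := e) (fun a => by rw [he a]; rfl)
  have hN : IsNoetherianRing (Cpl (Localization.AtPrime m)) := Groth.Agent.S0543.result _ _
  constructor
  · intro h
    have h1 : CAlg.IsRegularHom R (Localization.AtPrime m) :=
      Groth.Agent.CalgB.RegHom7.isRegularHom_of_isLocalization _ m.primeCompl
    have h2 : CAlg.IsRegularHom R (Cpl (Localization.AtPrime m)) :=
      Groth.Agent.Ega4C.GeomCompReg.isRegularHom_comp R (Localization.AtPrime m) _ h1 h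
    exact Groth.Agent.Ega4C.GeomCompReg.isRegularHom_of_algEquiv R _ _ e'.symm h2
  · intro h
    have h2 : CAlg.IsRegularHom R (Cpl (Localization.AtPrime m)) :=
      Groth.Agent.Ega4C.GeomCompReg.isRegularHom_of_algEquiv R _ _ e' h
    exact Groth.Agent.CalgB.RegHom7.isRegularHom_localization_left _ m.primeCompl h2

section Smooth

set_option linter.unusedSectionVars false

theorem exists_eval_eq (R : Type u) [CommRing R] [IsLocalRing R] [IsNoetherianRing R]
    (n : ℕ) (x : Cpl R) :
    ∃ a : R, AdicCompletion.evalₐ (maximalIdeal R) n x = Ideal.Quotient.mk _ a ∧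
      x - algebraMap R (Cpl R) a ∈ maximalIdeal (Cpl R) ^ n := by
  obtain ⟨a, ha⟩ := Ideal.Quotient.mk_surjective (AdicCompletion.evalₐ (maximalIdeal R) n x)
  refine ⟨a, ha.symm, ?_⟩
  have h1 : x - algebraMap R (Cpl R) a ∈ (maximalIdeal R) ^ n •
      (⊤ : Submodule R (AdicCompletion (maximalIdeal R) R)) := by
    rw [AdicCompletion.pow_smul_top_eq_ker_eval (maximalIdeal R).fg_of_isNoetherianRing,
      LinearMap.mem_ker, AdicCompletion.eval_apply]
    have h2 : AdicCompletion.evalₐ (maximalIdeal R) n (x - algebraMap R (Cpl R) a) = 0 := by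
      rw [map_sub, ← ha, AlgHom.commutes]
      exact sub_self _
    have h3 := AdicCompletion.factor_evalₐ_eq_eval (maximalIdeal R) (n := n)
      (x - algebraMap R (Cpl R) a) (Ideal.mul_top _).ge
    rw [h2, map_zero] at h3
    exact h3.symm
  rw [Ideal.smul_top_eq_map, Submodule.restrictScalars_mem, Ideal.map_pow,
    ← AdicCompletion.maximalIdeal_eq_map] at h1
  exact h1

variable (R S : Type u) [CommRing R] [IsLocalRing R] [IsNoetherianRing R] [CommRing S]
  [IsLocalRing S] [IsNoetherianRing S] [Algebra R S] [IsLocalHom (algebraMap R S)]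

/-- The map on completions. -/
noncomputable def cplMap : Cpl R →+* Cpl S :=
  Groth.Agent.CurvesB.EtaleCompl.complMap (algebraMap R S) (maximalIdeal R) (maximalIdeal S)
    (((IsLocalRing.local_hom_TFAE (algebraMap R S)).out 0 3).mp
      (inferInstance : IsLocalHom (algebraMap R S)))

theorem cplMap_algebraMap (a : R) :
    cplMap R S (algebraMap R _ a) = algebraMap S _ (algebraMap R S a) :=
  Groth.Agent.CurvesB.EtaleCompl.complMap_algebraMap _ _ _ _ a

theorem map_cplMap : (maximalIdeal (Cpl R)).map (cplMap R S) ≤ maximalIdeal (Cpl S) := by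
  rw [AdicCompletion.maximalIdeal_eq_map, Ideal.map_map, Ideal.map_le_iff_le_comap]
  intro x hx
  rw [Ideal.mem_comap, RingHom.comp_apply, cplMap_algebraMap, AdicCompletion.maximalIdeal_eq_map]
  exact Ideal.mem_map_of_mem _ ((map_mem_nonunits_iff (algebraMap R S) x).mpr hx)

instance : IsLocalHom (cplMap R S) :=
  ((IsLocalRing.local_hom_TFAE (cplMap R S)).out 0 2).mpr (map_cplMap R S)

theorem eval_cplMap (n : ℕ) (x : Cpl R) (a : R)
    (h : AdicCompletion.evalₐ (maximalIdeal R) n x = Ideal.Quotient.mk _ a) :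
    AdicCompletion.evalₐ (maximalIdeal S) n (cplMap R S x) =
      Ideal.Quotient.mk _ (algebraMap R S a) := by
  unfold cplMap
  rw [Groth.Agent.CurvesB.EtaleCompl.evalₐ_complMap, h]
  rfl

/-- The completion of a formally smooth local homomorphism is formally smooth for the adic
topology. -/
theorem isAdicFormallySmooth_cpl [Algebra.FormallySmooth R S] [Algebra (Cpl R) (Cpl S)]
    (halg : algebraMap (Cpl R) (Cpl S) = cplMap R S) :
    CAlgX.IsAdicFormallySmooth (Cpl R) (Cpl S) (maximalIdeal (Cpl S)) := by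
  intro A _ _ J hJ ψ hψ
  obtain ⟨k, hk⟩ := hψ
  let : Algebra R A := ((algebraMap (Cpl R) A).comp (algebraMap R (Cpl R))).toAlgebra
  have : IsScalarTower R (Cpl R) A := IsScalarTower.of_algebraMap_eq' rfl
  have hJ2 : J * J = ⊥ := by rw [← pow_two]; exact hJ
  -- the map on `S`
  let f : S →ₐ[R] A ⧸ J :=
    { (ψ : Cpl S →+* A ⧸ J).comp (algebraMap S (Cpl S)) with
      commutes' := fun r => by
        change ψ (algebraMap S (Cpl S) (algebraMap R S r)) = _
        rw [← cplMap_algebraMap, ← halg, ψ.commutes]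
        rfl }
  have hf : ∀ s, f s = ψ (algebraMap S (Cpl S) s) := fun s => rfl
  obtain ⟨g, hg⟩ := Algebra.FormallySmooth.comp_surjective R S J hJ f
  have hg' : ∀ s, Ideal.Quotient.mk J (g s) = f s := fun s => DFunLike.congr_fun hg s
  -- `g` kills `m ^ (k + k)`
  have hgJ : ∀ s ∈ maximalIdeal S ^ k, g s ∈ J := by
    intro s hs
    rw [← Ideal.Quotient.eq_zero_iff_mem, hg', hf]
    apply hk
    rw [AdicCompletion.maximalIdeal_eq_map, ← Ideal.map_pow]
    exact Ideal.mem_map_of_mem _ hs
  have hg0 : ∀ s ∈ maximalIdeal S ^ (k + k), (g : S →+* A) s = 0 := by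
    intro s hs
    have h1 : (maximalIdeal S ^ (k + k)).map (g : S →+* A) ≤ ⊥ := by
      rw [pow_add, Ideal.map_mul, ← hJ2]
      exact Ideal.mul_mono (Ideal.map_le_iff_le_comap.mpr hgJ)
        (Ideal.map_le_iff_le_comap.mpr hgJ)
    exact (Ideal.mem_bot).mp (h1 (Ideal.mem_map_of_mem _ hs))
  let χ : Cpl S →+* A := (Ideal.Quotient.lift (maximalIdeal S ^ (k + k)) (g : S →+* A) hg0).comp
    (AdicCompletion.evalₐ (maximalIdeal S) (k + k)).toRingHom
  have hχ : ∀ y s, AdicCompletion.evalₐ (maximalIdeal S) (k + k) y = Ideal.Quotient.mk _ s →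
      χ y = g s := by
    intro y s h
    change Ideal.Quotient.lift (maximalIdeal S ^ (k + k)) (g : S →+* A) hg0
      (AdicCompletion.evalₐ (maximalIdeal S) (k + k) y) = _
    rw [h]
    rfl
  -- the structure map of `A` kills a power of the maximal ideal
  have hA : ∀ x ∈ maximalIdeal (Cpl R) ^ (k + k), algebraMap (Cpl R) A x = 0 := by
    intro x hx
    have h1 : (maximalIdeal (Cpl R) ^ k).map (algebraMap (Cpl R) A) ≤ J := by
      rw [Ideal.map_le_iff_le_comap]
      intro z hz
      rw [Ideal.mem_comap, ← Ideal.Quotient.eq_zero_iff_mem]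
      have h2 : Ideal.Quotient.mk J (algebraMap (Cpl R) A z) =
          ψ (algebraMap (Cpl R) (Cpl S) z) := (ψ.commutes z).symm
      rw [h2]
      apply hk
      rw [halg]
      refine Ideal.pow_right_mono (map_cplMap R S) k ?_
      rw [← Ideal.map_pow]
      exact Ideal.mem_map_of_mem _ hz
    have h2 : (maximalIdeal (Cpl R) ^ (k + k)).map (algebraMap (Cpl R) A) ≤ ⊥ := by
      rw [pow_add, Ideal.map_mul, ← hJ2]
      exact Ideal.mul_mono h1 h1
    exact (Ideal.mem_bot).mp (h2 (Ideal.mem_map_of_mem _ hx))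
  refine ⟨{ χ with commutes' := fun r => ?_ }, ?_⟩
  · obtain ⟨a, ha, ha'⟩ := exists_eval_eq R (k + k) r
    change χ (algebraMap (Cpl R) (Cpl S) r) = _
    rw [halg, hχ _ _ (eval_cplMap R S (k + k) r a ha), AlgHom.commutes]
    have h1 := hA _ ha'
    rw [map_sub, sub_eq_zero] at h1
    rw [h1]
    rfl
  · ext y
    obtain ⟨s, hs, hs'⟩ := exists_eval_eq S (k + k) y
    change Ideal.Quotient.mk J (χ y) = ψ y
    rw [hχ _ _ hs, hg', hf]
    have h1 := hk _ (Ideal.pow_le_pow_right (Nat.le_add_left k k) hs')
    rw [map_sub, sub_eq_zero] at h1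
    exact h1.symm

end Smooth

end Groth.Agent.UnramA.GRingCpl
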