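import Groth.Agent.UnramA.SepDegPoints
import Groth.Agent.UnramA.UnibranchSpec
import Mathlib.AlgebraicGeometry.Morphisms.FlatRank
import Mathlib.AlgebraicGeometry.Morphisms.Etale
import Mathlib.RingTheory.TotallySplit

/-!
Counting geometric points of finite étale morphisms: the number of points over a geometric point is
the rank; hence the sum of the separable residue degrees in a fibre is the rank.
-/

set_option autoImplicit false
universe u

open AlgebraicGeometry CategoryTheory Limits

noncomputable section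

namespace Groth.Agent.UnramA.FiniteEtaleCount

open SepDegPoints

lemma card_sections_aux {E : Type u} [Field E] [IsSepClosed E] (C : Type u) [CommRing C]
    [Algebra E C] [Module.Finite E C] [Algebra.Etale E C] :
    Nat.card {s : Spec (.of E) ⟶ Spec (.of C) //
      s ≫ Spec.map (CommRingCat.ofHom (algebraMap E C)) = 𝟙 _} = Module.finrank E C := by
  have h1 : Nat.card (C →ₐ[E] E) = Module.finrank E C := by
    rw [Nat.card_congr (Algebra.IsFiniteSplit.algHomEquivPrimeSpectrum E C),
      (Algebra.FormallyEtale.equivPiOfIsSepClosed E C).toLinearEquiv.finrank_eq]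
    have : IsArtinianRing C := isArtinian_of_tower E inferInstance
    have : Fintype (PrimeSpectrum C) := Fintype.ofFinite _
    rw [Module.finrank_pi, Nat.card_eq_fintype_card]
  rw [← h1]
  refine (Nat.card_congr ?_).symm
  exact
    { toFun := fun φ => ⟨Spec.map (CommRingCat.ofHom φ.toRingHom), by
        rw [← Spec.map_comp, ← CommRingCat.ofHom_comp, ← Spec.map_id]
        congr 1
        ext x
        exact φ.commutes x⟩
      invFun := fun s =>
        { (Spec.preimage s.1).hom with
          commutes' := by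
            intro x
            have h : Spec.map (CommRingCat.ofHom (algebraMap E C) ≫ Spec.preimage s.1) =
                Spec.map (𝟙 _) := by
              rw [Spec.map_comp, Spec.map_preimage, Spec.map_id]
              exact s.2
            exact congrArg (fun t : CommRingCat.of E ⟶ .of E => t.hom x) (Spec.map_inj.mp h) }
      left_inv := fun φ => by
        apply AlgHom.ext
        intro x
        have h : Spec.preimage (Spec.map (CommRingCat.ofHom φ.toRingHom)) =
            CommRingCat.ofHom φ.toRingHom := Spec.preimage_map _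
        exact congrArg (fun t : CommRingCat.of C ⟶ .of E => t.hom x) h
      right_inv := fun s => by
        apply Subtype.ext
        change Spec.map (Spec.preimage s.1) = _
        rw [Spec.map_preimage] }

lemma card_sections {E : Type u} [Field E] [IsSepClosed E] {W : Scheme.{u}}
    (g : W ⟶ Spec (.of E)) [IsFinite g] [Etale g] (z : Spec (.of E)) :
    Nat.card {s : Spec (.of E) ⟶ W // s ≫ g = 𝟙 _} = g.finrank z := by
  have hW : IsAffine W := isAffine_of_isAffineHom g
  let C := Γ(W, ⊤)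
  let φ : CommRingCat.of E ⟶ C := Spec.preimage (W.isoSpec.inv ≫ g)
  have hφ : Spec.map φ = W.isoSpec.inv ≫ g := Spec.map_preimage _
  let _ := φ.hom.toAlgebra
  have hfin : IsFinite (Spec.map φ) := by rw [hφ]; infer_instance
  have het : Etale (Spec.map φ) := by rw [hφ]; infer_instance
  have hfin' : Module.Finite E C := by
    rw [IsFinite.SpecMap_iff] at hfin
    exact hfin
  have het' : Algebra.Etale E C := by
    rw [HasRingHomProperty.Spec_iff (P := @Etale)] at het
    exact het
  have h1 : Nat.card {s : Spec (.of E) ⟶ W // s ≫ g = 𝟙 _} = Nat.card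
      {s : Spec (.of E) ⟶ Spec C // s ≫ Spec.map (CommRingCat.ofHom (algebraMap E C)) = 𝟙 _} := by
    refine Nat.card_congr ?_
    exact
      { toFun := fun s => ⟨s.1 ≫ W.isoSpec.hom, by
          have : Spec.map (CommRingCat.ofHom (algebraMap E C)) = W.isoSpec.inv ≫ g := hφ
          rw [this]; simpa using s.2⟩
        invFun := fun s => ⟨s.1 ≫ W.isoSpec.inv, by
          have : Spec.map (CommRingCat.ofHom (algebraMap E C)) = W.isoSpec.inv ≫ g := hφ
          rw [Category.assoc, ← this]; exact s.2⟩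
        left_inv := fun s => Subtype.ext (by simp)
        right_inv := fun s => Subtype.ext (by simp) }
  rw [h1]
  refine (card_sections_aux C).trans ?_
  have h2 : (Spec.map (CommRingCat.ofHom (algebraMap E C))).finrank z = g.finrank z := by
    have : Spec.map (CommRingCat.ofHom (algebraMap E C)) = W.isoSpec.inv ≫ g := hφ
    rw [this, Scheme.Hom.finrank_comp_left_of_isIso]
  rw [← h2, Scheme.Hom.finrank_SpecMap_algebraMap E C, Module.rankAtStalk_eq_finrank_of_free]
  rfl

lemma card_pts_eq_finrank {X Y : Scheme.{u}} (f : X ⟶ Y) (U : Y.Opens) [IsFinite (f ∣_ U)]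
    [Etale (f ∣_ U)] {E : Type u} [Field E] [IsSepClosed E] (γ : Spec (.of E) ⟶ Y) (y : U)
    (hγ : γ (IsLocalRing.closedPoint E) = y.1) :
    Nat.card (Pts f γ (f.base ⁻¹' {y.1})) = (f ∣_ U).finrank y := by
  have hr : Set.range γ ⊆ Set.range U.ι := by
    rintro _ ⟨z, rfl⟩
    obtain rfl : z = IsLocalRing.closedPoint E := Subsingleton.elim _ _
    rw [hγ, Scheme.Opens.range_ι]
    exact y.2
  let γ' : Spec (.of E) ⟶ U := IsOpenImmersion.lift U.ι γ hr
  have hγ' : γ' ≫ U.ι = γ := IsOpenImmersion.lift_fac _ _ _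
  have hγy : γ' (IsLocalRing.closedPoint E) = y := by
    apply U.ι.injective
    rw [← Scheme.Hom.comp_apply, hγ', hγ]
    rfl
  have hp : IsPullback (pullback.fst (f ∣_ U) γ' ≫ (f ⁻¹ᵁ U).ι) (pullback.snd (f ∣_ U) γ') f
      (γ' ≫ U.ι) :=
    (IsPullback.of_hasPullback (f ∣_ U) γ').paste_horiz (isPullback_morphismRestrict f U).flip
  rw [hγ'] at hp
  have h1 : Nat.card (Pts f γ (f.base ⁻¹' {y.1})) =
      Nat.card {s : Spec (.of E) ⟶ pullback (f ∣_ U) γ' // s ≫ pullback.snd (f ∣_ U) γ' = 𝟙 _} := by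
    refine Nat.card_congr ?_
    exact
      { toFun := fun t => ⟨hp.lift t.1 (𝟙 _) (by rw [Category.id_comp]; exact t.2.1),
          hp.lift_snd _ _ _⟩
        invFun := fun s => ⟨s.1 ≫ pullback.fst (f ∣_ U) γ' ≫ (f ⁻¹ᵁ U).ι, by
          rw [Category.assoc, hp.w, reassoc_of% s.2], by
          rw [Set.mem_preimage, Set.mem_singleton_iff, ← hγ]
          change (_ ≫ f) _ = _
          rw [Category.assoc, hp.w, reassoc_of% s.2]⟩
        left_inv := fun t => Subtype.ext (hp.lift_fst _ _ _)
        right_inv := fun s => Subtype.ext (hp.hom_ext (hp.lift_fst _ _ _) (by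
          rw [hp.lift_snd]; exact s.2.symm)) }
  rw [h1, card_sections (pullback.snd (f ∣_ U) γ') (IsLocalRing.closedPoint E),
    Scheme.Hom.finrank_pullback_snd, hγy]

lemma quasiFiniteAt_of_restrict {X Y : Scheme.{u}} (f : X ⟶ Y) (U : Y.Opens)
    [LocallyQuasiFinite (f ∣_ U)] (x : X) (hx : f x ∈ U) : f.QuasiFiniteAt x := by
  have h1 : (f ∣_ U).QuasiFiniteAt ⟨x, hx⟩ := Scheme.Hom.quasiFiniteAt _ _
  rw [← Scheme.Hom.quasiFiniteAt_comp_iff (g := U.ι), morphismRestrict_ι,
    Scheme.Hom.quasiFiniteAt_comp_iff_of_isOpenImmersion] at h1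
  exact h1

lemma finite_preimage {X Y : Scheme.{u}} (f : X ⟶ Y) (U : Y.Opens)
    [IsFinite (f ∣_ U)] (y : Y) (hy : y ∈ U) : (f.base ⁻¹' {y}).Finite := by
  have h1 : ((f ∣_ U) ⁻¹' {⟨y, hy⟩}).Finite := Scheme.Hom.finite_preimage_singleton _ _
  refine (h1.image (f ⁻¹ᵁ U).ι).subset ?_
  intro x hx
  have hx' : f x = y := hx
  refine ⟨⟨x, by change f x ∈ U; rw [hx']; exact hy⟩, ?_, rfl⟩
  apply Subtype.ext
  have h2 : ((f ∣_ U) ≫ U.ι) ⟨x, by change f x ∈ U; rw [hx']; exact hy⟩ = f x := by
    rw [morphismRestrict_ι]; rfl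
  exact h2.trans hx'

lemma residueSepDegree_eq {X Y : Scheme.{u}} (f : X ⟶ Y) (U : Y.Opens)
    [Etale (f ∣_ U)] (x : X) (hx : f x ∈ U) :
    EGA4loc.residueSepDegree f x = EGA4loc.residueDegree f x := by
  have het : Etale ((f ⁻¹ᵁ U).ι ≫ f) := by
    rw [← morphismRestrict_ι]; infer_instance
  obtain ⟨x', rfl⟩ : ∃ x' : (f ⁻¹ᵁ U).toScheme, (f ⁻¹ᵁ U).ι x' = x := ⟨⟨x, hx⟩, rfl⟩
  let _ : Algebra (Y.residueField (((f ⁻¹ᵁ U).ι ≫ f) x')) ((f ⁻¹ᵁ U).toScheme.residueField x') :=
    (((f ⁻¹ᵁ U).ι ≫ f).residueFieldMap x').hom.toAlgebra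
  have h1 : Algebra.IsSeparable (Y.residueField (((f ⁻¹ᵁ U).ι ≫ f) x'))
    ((f ⁻¹ᵁ U).toScheme.residueField x') := inferInstance
  let _ : Algebra (Y.residueField (f ((f ⁻¹ᵁ U).ι x'))) ((f ⁻¹ᵁ U).toScheme.residueField x') :=
    (((f ⁻¹ᵁ U).ι ≫ f).residueFieldMap x').hom.toAlgebra
  have h1' : Algebra.IsSeparable (Y.residueField (f ((f ⁻¹ᵁ U).ι x')))
    ((f ⁻¹ᵁ U).toScheme.residueField x') := h1
  let _ := (f.residueFieldMap ((f ⁻¹ᵁ U).ι x')).hom.toAlgebra
  have h2 : Algebra.IsSeparable (Y.residueField (f ((f ⁻¹ᵁ U).ι x')))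
      (X.residueField ((f ⁻¹ᵁ U).ι x')) := by
    let i : X.residueField ((f ⁻¹ᵁ U).ι x') →ₐ[Y.residueField (f ((f ⁻¹ᵁ U).ι x'))]
        (f ⁻¹ᵁ U).toScheme.residueField x' :=
      { ((f ⁻¹ᵁ U).ι.residueFieldMap x').hom with
        commutes' := by
          intro a
          have := Scheme.residueFieldMap_comp (f ⁻¹ᵁ U).ι f x'
          exact (congrArg (fun t => t.hom a) this).symm }
    exact Algebra.IsSeparable.of_algHom _ _ i
  exact Field.finSepDegree_eq_finrank_of_isSeparable _ _

lemma sum_residueSepDegree {X Y : Scheme.{u}} (f : X ⟶ Y) (U : Y.Opens) [IsFinite (f ∣_ U)]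
    [Etale (f ∣_ U)] (y : Y) (hy : y ∈ U) (hfin : (f.base ⁻¹' {y}).Finite) :
    ∑ x ∈ hfin.toFinset, EGA4loc.residueSepDegree f x = (f ∣_ U).finrank ⟨y, hy⟩ := by
  let E := AlgebraicClosure (Y.residueField y)
  let γ : Spec (.of E) ⟶ Y :=
    Spec.map (CommRingCat.ofHom (algebraMap (Y.residueField y) E)) ≫ Y.fromSpecResidueField y
  have hγ : γ (IsLocalRing.closedPoint E) = y := by
    simp only [γ, Scheme.Hom.comp_apply]
    exact Y.fromSpecResidueField_apply y _
  rw [← card_pts_eq_finrank f U γ ⟨y, hy⟩ hγ, card_pts f γ _ hfin]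
  · intro z hz
    rw [hγ]
    exact hz.symm
  · intro z hz
    refine UnibranchSpec.isFinAt_of_quasiFiniteAt f z (quasiFiniteAt_of_restrict f U z ?_)
    have : f z = y := hz
    rw [this]; exact hy

/-- Over a finite étale neighbourhood the separable degree of a fibre is the generic degree. -/
theorem count {X Y : Scheme.{u}} (f : X ⟶ Y) [IsIntegral Y]
    (hfin : (f.base ⁻¹' {genericPoint Y}).Finite) (y : Y) (U : Y.Opens) (hy : y ∈ U)
    [IsFinite (f ∣_ U)] [Etale (f ∣_ U)] :
    ({x : X | f.base x = y ∧ f.QuasiFiniteAt x}.Finite ∧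
      (∑ᶠ x ∈ {x : X | f.base x = y ∧ f.QuasiFiniteAt x}, EGA4loc.residueSepDegree f x) =
        ∑ x ∈ hfin.toFinset, EGA4loc.residueDegree f x) := by
  have hset : {x : X | f.base x = y ∧ f.QuasiFiniteAt x} = f.base ⁻¹' {y} := by
    ext x
    refine ⟨fun h => h.1, fun h => ⟨h, quasiFiniteAt_of_restrict f U x ?_⟩⟩
    have : f x = y := h
    rw [this]; exact hy
  have hyfin := finite_preimage f U y hy
  rw [hset]
  refine ⟨hyfin, ?_⟩
  have hη : genericPoint Y ∈ U :=
    ((genericPoint_spec Y).specializes trivial).mem_open U.2 hy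
  rw [finsum_mem_eq_finite_toFinset_sum _ hyfin, sum_residueSepDegree f U y hy hyfin]
  have h1 : ∑ x ∈ hfin.toFinset, EGA4loc.residueDegree f x =
      ∑ x ∈ hfin.toFinset, EGA4loc.residueSepDegree f x := by
    refine Finset.sum_congr rfl fun x hx => (residueSepDegree_eq f U x ?_).symm
    have : f x = genericPoint Y := by simpa using hx
    rw [this]; exact hη
  rw [h1, sum_residueSepDegree f U _ hη hfin]
  have hne : Nonempty U := ⟨⟨y, hy⟩⟩
  exact (Scheme.Hom.isLocallyConstant_finrank (f ∣_ U)).apply_eq_of_preconnectedSpace _ _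

end Groth.Agent.UnramA.FiniteEtaleCount
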