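import Mathlib.RingTheory.Smooth.Fiber
import Mathlib.RingTheory.Etale.Basic
import Mathlib.RingTheory.Support
import Mathlib.RingTheory.Kaehler.TensorProduct
import Mathlib.RingTheory.Finiteness.ModuleFinitePresentation
import Mathlib.Algebra.Module.FinitePresentation
import Mathlib.LinearAlgebra.FreeModule.Basic

/-!
Spreading out: a finite torsion free algebra `S` over a domain `R` whose localization at a prime
`p` is free and étale, is étale over a neighbourhood of `p`.
-/

set_option autoImplicit false
universe u

open scoped TensorProduct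

noncomputable section

namespace Groth.Agent.UnramA.EtaleSpread

lemma exists_smul_eq_zero {R M : Type*} [CommRing R] [AddCommGroup M] [Module R M]
    [Module.Finite R M] (p : Ideal R) [hp : p.IsPrime]
    (h : Subsingleton (Localization.AtPrime p ⊗[R] M)) : ∃ g : R, g ∉ p ∧ ∀ m : M, g • m = 0 := by
  have h1 : Subsingleton (LocalizedModule p.primeCompl M) :=
    (IsLocalizedModule.iso p.primeCompl
      (TensorProduct.mk R (Localization.AtPrime p) M 1)).toEquiv.subsingleton
  have h2 : (⟨p, hp⟩ : PrimeSpectrum R) ∉ Module.support R M := by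
    rw [Module.notMem_support_iff]; exact h1
  rw [Module.mem_support_iff_of_finite, SetLike.not_le_iff_exists] at h2
  obtain ⟨g, hg, hgp⟩ := h2
  exact ⟨g, hgp, fun m => Module.mem_annihilator.mp hg m⟩

lemma exists_smul_eq_zero' {R M : Type*} [CommRing R] [AddCommGroup M] [Module R M]
    [Module.Finite R M] (p : Ideal R) [hp : p.IsPrime]
    (h : ∀ m : M, ∃ r : R, r ∉ p ∧ r • m = 0) : ∃ g : R, g ∉ p ∧ ∀ m : M, g • m = 0 := by
  have h2 : (⟨p, hp⟩ : PrimeSpectrum R) ∉ Module.support R M := by
    rw [Module.notMem_support_iff']; exact h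
  rw [Module.mem_support_iff_of_finite, SetLike.not_le_iff_exists] at h2
  obtain ⟨g, hg, hgp⟩ := h2
  exact ⟨g, hgp, fun m => Module.mem_annihilator.mp hg m⟩

lemma subsingleton_tensor {R M : Type*} [CommRing R] [AddCommGroup M] [Module R M] (g : R)
    (h : ∀ m : M, g • m = 0) : Subsingleton (Localization.Away g ⊗[R] M) := by
  refine subsingleton_of_forall_eq 0 fun x => ?_
  induction x using TensorProduct.induction_on with
  | zero => rfl
  | add x y hx hy => rw [hx, hy, add_zero]
  | tmul a m =>
    have hu : IsUnit (algebraMap R (Localization.Away g) g) :=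
      IsLocalization.Away.algebraMap_isUnit g
    obtain ⟨v, hv⟩ := hu
    have : a = g • ((↑v⁻¹ : Localization.Away g) * a) := by
      rw [Algebra.smul_def, ← hv, ← mul_assoc, Units.mul_inv, one_mul]
    rw [this, TensorProduct.smul_tmul, h, TensorProduct.tmul_zero]

/-- The spreading out lemma. -/
theorem exists_etale {R S : Type u} [CommRing R] [IsDomain R] [CommRing S] [Algebra R S]
    [Module.Finite R S] (p : Ideal R) [hp : p.IsPrime]
    [Module.Free (Localization.AtPrime p) (Localization.AtPrime p ⊗[R] S)]
    [Algebra.Etale (Localization.AtPrime p) (Localization.AtPrime p ⊗[R] S)] :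
    ∃ g : R, g ∉ p ∧ Algebra.Etale (Localization.Away g) (Localization.Away g ⊗[R] S) := by
  -- the differentials
  have hΩ : ∃ g : R, g ∉ p ∧ ∀ m : Ω[S⁄R], g • m = 0 := by
    have : Module.Finite R Ω[S⁄R] := Module.Finite.trans S _
    refine exists_smul_eq_zero p ?_
    let _ : Algebra S (Localization.AtPrime p ⊗[R] S) := Algebra.TensorProduct.rightAlgebra
    exact (KaehlerDifferential.tensorKaehlerEquivBase R (Localization.AtPrime p) S
      (Localization.AtPrime p ⊗[R] S)).subsingleton
  obtain ⟨g₂, hg₂, hΩ⟩ := hΩ
  -- the basis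
  let b := Module.Free.chooseBasis (Localization.AtPrime p) (Localization.AtPrime p ⊗[R] S)
  set ι := Module.Free.ChooseBasisIndex (Localization.AtPrime p) (Localization.AtPrime p ⊗[R] S)
  have hfin : Fintype ι := inferInstance
  let e : Localization.AtPrime p ⊗[R] (ι → R) ≃ₗ[Localization.AtPrime p]
      Localization.AtPrime p ⊗[R] S :=
    (TensorProduct.piScalarRight R (Localization.AtPrime p) (Localization.AtPrime p) ι).trans
      b.equivFun.symm
  obtain ⟨φ, s, hφ, hφs⟩ := Module.exists_localizedMap_surjective_of_surjective p.primeCompl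
    (TensorProduct.mk R (Localization.AtPrime p) (ι → R) 1)
    (TensorProduct.mk R (Localization.AtPrime p) S 1) (ϕ := e.toLinearMap.restrictScalars R)
    e.surjective
  have hφe : ∀ x : ι → R, (1 : Localization.AtPrime p) ⊗ₜ[R] φ x =
      (s : R) • e ((1 : Localization.AtPrime p) ⊗ₜ[R] x) := by
    intro x
    have h1 := IsLocalizedModule.map_apply p.primeCompl
      (TensorProduct.mk R (Localization.AtPrime p) (ι → R) 1)
      (TensorProduct.mk R (Localization.AtPrime p) S 1) φ x
    rw [hφ] at h1
    exact h1.symm
  -- injectivity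
  have hinj : Function.Injective φ := by
    rw [injective_iff_map_eq_zero]
    intro x hx
    have h1 := hφe x
    rw [hx, TensorProduct.tmul_zero] at h1
    have h2 : e ((s : R) • ((1 : Localization.AtPrime p) ⊗ₜ[R] x)) = 0 := by
      have := (e.toLinearMap.restrictScalars R).map_smul (s : R)
        ((1 : Localization.AtPrime p) ⊗ₜ[R] x)
      exact this.trans h1.symm
    rw [LinearEquiv.map_eq_zero_iff, ← TensorProduct.tmul_smul] at h2
    have h3 := congrArg (TensorProduct.piScalarRight R (Localization.AtPrime p)
      (Localization.AtPrime p) ι) h2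
    rw [TensorProduct.piScalarRight_apply, map_zero] at h3
    ext i
    have h4 := congrFun h3 i
    simp only [TensorProduct.piScalarRightHom_tmul, Pi.zero_apply, Pi.smul_apply, smul_eq_mul] at h4
    rw [Algebra.smul_def, mul_one] at h4
    have h5 : (s : R) * x i = 0 :=
      (map_eq_zero_iff _ (IsLocalization.injective (Localization.AtPrime p)
        p.primeCompl_le_nonZeroDivisors)).mp h4
    rcases mul_eq_zero.mp h5 with h | h
    · exact absurd h fun h0 => s.2 (by rw [h0]; exact p.zero_mem)
    · exact h
  -- surjectivity near `p`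
  have hQ : ∃ g : R, g ∉ p ∧ ∀ m : S ⧸ LinearMap.range φ, g • m = 0 := by
    refine exists_smul_eq_zero' p fun m => ?_
    obtain ⟨x, rfl⟩ := Submodule.mkQ_surjective _ m
    obtain ⟨v, hv⟩ := hφs ((1 : Localization.AtPrime p) ⊗ₜ[R] x)
    obtain ⟨⟨w, t⟩, hw⟩ := IsLocalizedModule.surj p.primeCompl
      (TensorProduct.mk R (Localization.AtPrime p) (ι → R) 1) v
    have h1 : TensorProduct.mk R (Localization.AtPrime p) S 1 ((t : R) • x) =
        TensorProduct.mk R (Localization.AtPrime p) S 1 (φ w) := by
      have h2 := IsLocalizedModule.map_apply p.primeCompl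
        (TensorProduct.mk R (Localization.AtPrime p) (ι → R) 1)
        (TensorProduct.mk R (Localization.AtPrime p) S 1) φ w
      have h3 : (t : R) • v = TensorProduct.mk R (Localization.AtPrime p) (ι → R) 1 w := hw
      rw [← h2, ← h3, map_smul, map_smul]
      exact congrArg (fun z => (t : R) • z) hv.symm
    obtain ⟨u, hu⟩ := (IsLocalizedModule.eq_iff_exists p.primeCompl
      (TensorProduct.mk R (Localization.AtPrime p) S 1)).mp h1
    refine ⟨u * t, fun h => (hp.mem_or_mem h).elim u.2 t.2, ?_⟩
    rw [← map_smul, Submodule.mkQ_apply, Submodule.Quotient.mk_eq_zero, mul_smul]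
    exact ⟨(u : R) • w, by rw [map_smul]; exact hu.symm⟩
  obtain ⟨g₁, hg₁, hQ⟩ := hQ
  refine ⟨g₁ * g₂, fun h => (hp.mem_or_mem h).elim hg₁ hg₂, ?_⟩
  set g := g₁ * g₂
  have hΩg : Subsingleton (Localization.Away g ⊗[R] Ω[S⁄R]) := subsingleton_tensor g fun m => by
    rw [mul_smul, hΩ, smul_zero]
  have hQg : ∀ m : S ⧸ LinearMap.range φ, g • m = 0 := fun m => by
    rw [show g = g₂ * g₁ from mul_comm _ _, mul_smul, hQ, smul_zero]
  have hbij : Function.Bijective (φ.baseChange (Localization.Away g)) := by
    constructor
    · exact Module.Flat.lTensor_preserves_injective_linearMap φ hinj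
    · intro x
      induction x using TensorProduct.induction_on with
      | zero => exact ⟨0, map_zero _⟩
      | add x y hx hy =>
        obtain ⟨x', rfl⟩ := hx
        obtain ⟨y', rfl⟩ := hy
        exact ⟨x' + y', map_add _ _ _⟩
      | tmul a x =>
        obtain ⟨v, hv⟩ := IsLocalization.Away.algebraMap_isUnit (S := Localization.Away g) g
        have h1 : a = g • ((↑v⁻¹ : Localization.Away g) * a) := by
          rw [Algebra.smul_def, ← hv, ← mul_assoc, Units.mul_inv, one_mul]
        have h2 := hQg (Submodule.Quotient.mk x)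
        rw [← Submodule.Quotient.mk_smul, Submodule.Quotient.mk_eq_zero] at h2
        obtain ⟨w, hw⟩ := h2
        refine ⟨((↑v⁻¹ : Localization.Away g) * a) ⊗ₜ w, ?_⟩
        rw [LinearMap.baseChange_tmul, hw, ← TensorProduct.smul_tmul, ← h1]
  let e' := LinearEquiv.ofBijective _ hbij
  have hfree : Module.Free (Localization.Away g) (Localization.Away g ⊗[R] S) := .of_equiv e'
  have hfin : Module.Finite (Localization.Away g) (Localization.Away g ⊗[R] S) := inferInstance
  have hfp : Module.FinitePresentation (Localization.Away g) (Localization.Away g ⊗[R] S) :=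
    Module.finitePresentation_of_projective _ _
  have hfp' : Algebra.FinitePresentation (Localization.Away g) (Localization.Away g ⊗[R] S) :=
    .of_finitePresentation _ _
  have hun : Algebra.FormallyUnramified (Localization.Away g) (Localization.Away g ⊗[R] S) := by
    constructor
    let _ : Algebra S (Localization.Away g ⊗[R] S) := Algebra.TensorProduct.rightAlgebra
    exact (KaehlerDifferential.tensorKaehlerEquivBase R (Localization.Away g) S
      (Localization.Away g ⊗[R] S)).symm.subsingleton
  exact Algebra.Etale.of_formallyUnramified_of_flat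

end Groth.Agent.UnramA.EtaleSpread
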