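import Groth.Agent.S0499
import Groth.Agent.Sga2.IdemClopen
import Mathlib.AlgebraicGeometry.Morphisms.Proper
import Mathlib.AlgebraicGeometry.Morphisms.Flat
import Mathlib.AlgebraicGeometry.Fiber

/-!
# Lifting clopen subsets of the closed fibre over henselian local rings
-/

set_option autoImplicit false
open CategoryTheory CategoryTheory.Limits AlgebraicGeometry Opposite TopologicalSpace
universe u

namespace Groth.Agent.UnramA.HenselClopen

/-- Clopen subsets of the fibre over `s` lift to clopen subsets of `X`. -/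
def LiftsClopen {X S : Scheme.{u}} (f : X ⟶ S) (s : S) : Prop :=
  ∀ Z : Set (f ⁻¹' {s}), IsClopen Z → ∃ W : Set X, IsClopen W ∧ Subtype.val ⁻¹' W = Z

/-- Clopen subsets of the fibre over `s` are cut out by the non-vanishing of a global function. -/
def LiftsSection {X S : Scheme.{u}} (f : X ⟶ S) (s : S) : Prop :=
  ∀ Z : Set (f ⁻¹' {s}), IsClopen Z →
    ∃ t : Γ(X, ⊤), ∀ x : f ⁻¹' {s}, (x : X) ∈ X.basicOpen t ↔ x ∈ Z

lemma liftsSection_of_liftsClopen {X S : Scheme.{u}} {f : X ⟶ S} {s : S}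
    (h : LiftsClopen f s) : LiftsSection f s := by
  intro Z hZ
  obtain ⟨W, hW, hWZ⟩ := h Z hZ
  let V : X.Opens := ⟨W, hW.isOpen⟩
  let V' : X.Opens := ⟨Wᶜ, hW.isClosed.isOpen_compl⟩
  have h1 : V ⊔ V' = ⊤ := by ext z; simp [V, V']
  have h2 : V ⊓ V' = ⊥ := by ext z; simp [V, V']
  obtain ⟨e, he⟩ := Groth.Agent.Sga2.IdemClopen.exists_isInd h1 h2
  refine ⟨e, fun x ↦ ?_⟩
  rw [he.basicOpen_eq h1, ← hWZ]
  rfl

/-- In a finite product of local rings, every element has the same support (on maximal ideals) as an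
idempotent. -/
lemma exists_idempotent_of_pi {ι : Type*} [Finite ι] (A : ι → Type*) [∀ i, CommRing (A i)]
    [∀ i, IsLocalRing (A i)] (t : ∀ i, A i) :
    ∃ e : ∀ i, A i, e * e = e ∧ ∀ (P : Ideal (∀ i, A i)), P.IsMaximal → (e ∈ P ↔ t ∈ P) := by
  classical
  cases nonempty_fintype ι
  let e : ∀ i, A i := fun i ↦ if IsUnit (t i) then 1 else 0
  refine ⟨e, ?_, ?_⟩
  · ext i
    by_cases h : IsUnit (t i) <;> simp [e, h]
  intro P hP
  -- `t = e * t + (1 - e) * t`, `e = e * t * u` and `(1 - e) * t` is in the radical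
  have h1 : e ∈ P → t ∈ P := by
    intro he
    by_contra ht
    obtain ⟨y, q, hq, hy⟩ := hP.exists_inv ht
    -- `q = 1 - y t`; on the complement of `e`, `y t` is a nonunit so `q` is a unit
    apply hP.ne_top
    rw [Ideal.eq_top_iff_one]
    let w : ∀ i, A i := fun i ↦ if h : IsUnit (q i) then (h.unit⁻¹ : (A i)ˣ) else 0
    have : (1 : ∀ i, A i) = e * (1 - w * q) + w * q := by
      ext i
      have hyi : y i * t i + q i = 1 := congr_fun hy i
      by_cases h : IsUnit (t i)
      · simp [e, h]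
      · have hq' : IsUnit (q i) := by
          have : IsUnit (y i * t i + q i) := by rw [hyi]; exact isUnit_one
          rcases IsLocalRing.isUnit_or_isUnit_of_isUnit_add this with h6 | h6
          · exact absurd (isUnit_of_mul_isUnit_right h6) h
          · exact h6
        simp [e, h, w, hq']
    rw [this]
    exact P.add_mem (P.mul_mem_right _ he) (P.mul_mem_left _ hq)
  have h2 : t ∈ P → e ∈ P := by
    intro ht
    let w : ∀ i, A i := fun i ↦ if h : IsUnit (t i) then (h.unit⁻¹ : (A i)ˣ) else 0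
    have : e = w * t := by
      ext i
      by_cases h : IsUnit (t i)
      · simp [e, h, w]
      · simp [e, h, w]
    rw [this]
    exact P.mul_mem_left _ ht
  exact ⟨h1, h2⟩

/-- In a finite algebra over a henselian local ring, every element has the same support (on maximal
ideals) as an idempotent. -/
lemma exists_idempotent_of_finite (R : Type u) [CommRing R] [HenselianLocalRing R] (S : Type u)
    [CommRing S] [Algebra R S] [Module.Finite R S] (t : S) :
    ∃ e : S, e * e = e ∧ ∀ (P : Ideal S), P.IsMaximal → (e ∈ P ↔ t ∈ P) := by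
  obtain ⟨ι, _, A, _, hA, ⟨φ⟩⟩ := Groth.Agent.S0499.result R S
  have := hA
  obtain ⟨e, he, he'⟩ := exists_idempotent_of_pi A (φ t)
  refine ⟨φ.symm e, by rw [← map_mul, he], fun P hP ↦ ?_⟩
  have hP' : (P.comap (φ.symm : (∀ i, A i) →+* S)).IsMaximal :=
    Ideal.comap_isMaximal_of_equiv φ.symm
  have := he' _ hP'
  rw [Ideal.mem_comap, Ideal.mem_comap] at this
  simpa using this

/-- Over a henselian local ring, lifting sections implies lifting clopen subsets. -/
theorem liftsClopen_of_liftsSection (A : Type u) [CommRing A] [HenselianLocalRing A]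
    {X : Scheme.{u}} (f : X ⟶ Spec (CommRingCat.of A)) [UniversallyClosed f]
    (h : LiftsSection f (IsLocalRing.closedPoint A : PrimeSpectrum A)) :
    LiftsClopen f (IsLocalRing.closedPoint A : PrimeSpectrum A) := by
  intro Z hZ
  obtain ⟨t, ht⟩ := h Z hZ
  let F := (Scheme.ΓSpecIso (CommRingCat.of A)).inv ≫ f.appTop
  have hF : F.hom.IsIntegral := by
    apply RingHom.isIntegral_respectsIso.2
      (e := (Scheme.ΓSpecIso (CommRingCat.of A)).symm.commRingCatIsoToRingEquiv)
    exact isIntegral_appTop_of_universallyClosed f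
  algebraize [F.hom]
  have hint : Algebra.IsIntegral A Γ(X, ⊤) := ⟨hF⟩
  let S : Subalgebra A Γ(X, ⊤) := Algebra.adjoin A {t}
  have hfin : Module.Finite A S := by
    have := (hint.isIntegral t).fg_adjoin_singleton
    exact Module.Finite.iff_fg.mpr this
  -- the maximal ideal of a point of the closed fibre
  have hprime : ∀ z : X, f z = (IsLocalRing.closedPoint A : PrimeSpectrum A) →
      ∃ P : Ideal S, P.IsMaximal ∧ ∀ b : S, b ∈ P ↔ z ∉ X.basicOpen (b : Γ(X, ⊤)) := by
    intro z hz
    let P₀ : Ideal Γ(X, ⊤) := (IsLocalRing.maximalIdeal (X.presheaf.stalk z)).comap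
      (X.presheaf.germ ⊤ z trivial).hom
    have hP₀ : ∀ b, b ∈ P₀ ↔ z ∉ X.basicOpen b := by
      intro b
      rw [Scheme.mem_basicOpen_top]
      exact IsLocalRing.mem_maximalIdeal _
    have hP₀p : P₀.IsPrime := Ideal.comap_isPrime _ _
    let P : Ideal S := P₀.comap (algebraMap S Γ(X, ⊤))
    have hPp : P.IsPrime := Ideal.comap_isPrime _ _
    refine ⟨P, ?_, fun b ↦ hP₀ _⟩
    have hint' : Algebra.IsIntegral A S := inferInstance
    apply Ideal.isMaximal_of_isIntegral_of_isMaximal_comap (R := A)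
    have : P.comap (algebraMap A S) = IsLocalRing.maximalIdeal A := by
      ext a
      rw [Ideal.mem_comap, Ideal.mem_comap, hP₀]
      have h1 : (algebraMap S Γ(X, ⊤)) ((algebraMap A S) a) = f.appTop
        ((Scheme.ΓSpecIso (CommRingCat.of A)).inv a) := rfl
      rw [h1]
      have h2 := Scheme.preimage_basicOpen f (U := ⊤)
        ((Scheme.ΓSpecIso (CommRingCat.of A)).inv a)
      have h3 : X.basicOpen (f.appTop ((Scheme.ΓSpecIso (CommRingCat.of A)).inv a)) =
        f ⁻¹ᵁ ((Spec (CommRingCat.of A)).basicOpen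
          ((Scheme.ΓSpecIso (CommRingCat.of A)).inv a)) := h2.symm
      rw [h3, basicOpen_eq_of_affine]
      change f z ∉ PrimeSpectrum.basicOpen a ↔ _
      rw [hz]
      change ¬ (a ∉ IsLocalRing.maximalIdeal A) ↔ _
      rw [not_not]
    rw [this]
    infer_instance
  have htS : t ∈ S := Algebra.subset_adjoin rfl
  obtain ⟨e, he, he'⟩ := exists_idempotent_of_finite A S ⟨t, htS⟩
  have hee : (e : Γ(X, ⊤)) * e = e := congr_arg Subtype.val he
  refine ⟨X.basicOpen (e : Γ(X, ⊤)), ⟨?_, (X.basicOpen _).isOpen⟩, ?_⟩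
  · have : (X.basicOpen (e : Γ(X, ⊤)) : Set X) = (X.basicOpen (1 - e : Γ(X, ⊤)) : Set X)ᶜ := by
      have h1 := Groth.Agent.Sga2.IdemClopen.basicOpen_sup (e : Γ(X, ⊤))
      have h2 := Groth.Agent.Sga2.IdemClopen.basicOpen_inf hee
      ext z
      constructor
      · intro hz hz'
        have : z ∈ (X.basicOpen (e : Γ(X, ⊤)) ⊓ X.basicOpen (1 - e : Γ(X, ⊤)) : X.Opens) :=
          ⟨hz, hz'⟩
        rw [h2] at this
        exact this
      · intro hz
        have : z ∈ (X.basicOpen (e : Γ(X, ⊤)) ⊔ X.basicOpen (1 - e : Γ(X, ⊤)) : X.Opens) := by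
          rw [h1]; trivial
        rcases this with h | h
        · exact h
        · exact absurd h hz
    rw [this]
    exact (X.basicOpen _).isOpen.isClosed_compl
  · ext ⟨x, hx⟩
    rw [← ht ⟨x, hx⟩]
    obtain ⟨P, hP, hP'⟩ := hprime x hx
    have h1 := he' P hP
    rw [hP', hP'] at h1
    exact not_iff_not.mp h1

/-- Descent of `LiftsSection` along a flat local base change `Spec C → Spec A` with
`A → C/m_C` surjective. -/
theorem liftsSection_of_isPullback {A C : Type u} [CommRing A] [CommRing C] [IsLocalRing A]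
    [IsLocalRing C] (φ : A →+* C) [IsLocalHom φ] (hφ : φ.Flat)
    (hsurj : ∀ c : C, ∃ a : A, c - φ a ∈ IsLocalRing.maximalIdeal C)
    {X X' : Scheme.{u}} (f : X ⟶ Spec (CommRingCat.of A)) (f' : X' ⟶ Spec (CommRingCat.of C))
    (g : X' ⟶ X) (H : IsPullback g f' f (Spec.map (CommRingCat.ofHom φ)))
    [QuasiCompact f] [QuasiSeparated f]
    (h : LiftsSection f' (IsLocalRing.closedPoint C : PrimeSpectrum C)) :
    LiftsSection f (IsLocalRing.closedPoint A : PrimeSpectrum A) := by
  intro Z hZ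
  have hcl : (Spec.map (CommRingCat.ofHom φ)) (IsLocalRing.closedPoint C : PrimeSpectrum C) =
      (IsLocalRing.closedPoint A : PrimeSpectrum A) := IsLocalRing.comap_closedPoint φ
  have hg : ∀ x' : f' ⁻¹' {(IsLocalRing.closedPoint C : PrimeSpectrum C)},
      g x' ∈ f ⁻¹' {(IsLocalRing.closedPoint A : PrimeSpectrum A)} := by
    rintro ⟨x', hx'⟩
    change f (g x') = _
    rw [← Scheme.Hom.comp_apply, H.w, Scheme.Hom.comp_apply]
    rw [show f' x' = _ from hx', hcl]
  let G : f' ⁻¹' {(IsLocalRing.closedPoint C : PrimeSpectrum C)} →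
      f ⁻¹' {(IsLocalRing.closedPoint A : PrimeSpectrum A)} := fun x' ↦ ⟨g x', hg x'⟩
  have hG : Continuous G := by
    refine Continuous.subtype_mk ?_ _
    exact g.continuous.comp continuous_subtype_val
  obtain ⟨e', he'⟩ := h (G ⁻¹' Z) (hZ.preimage hG)
  -- flat base change
  have hflat : Flat (Spec.map (CommRingCat.ofHom φ)) := by
    rw [HasRingHomProperty.Spec_iff (P := @Flat)]
    exact hφ
  have hXc : CompactSpace X := (quasiCompact_iff_compactSpace f).mp inferInstance
  have hXq : QuasiSeparatedSpace X := (quasiSeparated_iff_quasiSeparatedSpace f).mp inferInstance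
  have hpo := (isIso_pushoutSection_iff H (US := ⊤) (UT := ⊤) (UX := ⊤) (UY := ⊤) le_top le_top
    (by simp)).mp (isIso_pushoutSection_of_isQuasiSeparated_of_flat_right H _ _ _
      (isAffineOpen_top _) (isAffineOpen_top _) isCompact_univ
      (by simpa using isQuasiSeparated_univ))
  have hclos := CommRingCat.closure_range_union_range_eq_top_of_isPushout hpo
  -- the ring map `C → Γ(X', ⊤)`
  let F' := (Scheme.ΓSpecIso (CommRingCat.of C)).inv ≫ f'.appTop
  let I : Ideal Γ(X', ⊤) := (IsLocalRing.maximalIdeal C).map F'.hom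
  let K : Subring Γ(X', ⊤) :=
    ((Ideal.Quotient.mk I).comp g.appTop.hom).range.comap (Ideal.Quotient.mk I)
  have hFg : ∀ a : A, F'.hom (φ a) = g.appTop.hom (f.appTop.hom
      ((Scheme.ΓSpecIso (CommRingCat.of A)).inv a)) := by
    intro a
    have h1 := congr(($H.w).appTop)
    rw [Scheme.Hom.comp_appTop, Scheme.Hom.comp_appTop] at h1
    have h2 := Scheme.ΓSpecIso_inv_naturality (CommRingCat.ofHom φ)
    have h3 := congr(($h1).hom ((Scheme.ΓSpecIso (CommRingCat.of A)).inv a))
    have h4 := congr(($h2).hom a)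
    simp only [CommRingCat.hom_comp, RingHom.comp_apply] at h3 h4
    change (f'.appTop.hom ((Scheme.ΓSpecIso (CommRingCat.of C)).inv.hom (φ a))) = _
    rw [show φ a = (CommRingCat.ofHom φ).hom a from rfl, h4]
    exact h3.symm
  have hK : K = ⊤ := by
    rw [← top_le_iff, ← hclos, Subring.closure_le]
    rintro _ (⟨b, rfl⟩ | ⟨c, rfl⟩)
    · refine ⟨b, ?_⟩
      simp only [RingHom.comp_apply]
      congr 1
      exact congr(($(Scheme.Hom.appLE_eq_app g (U := ⊤))).hom b).symm
    · obtain ⟨c, rfl⟩ := (Scheme.ΓSpecIso (CommRingCat.of C)).symm.commRingCatIsoToRingEquiv.surjective c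
      obtain ⟨a, ha⟩ := hsurj c
      refine ⟨f.appTop.hom ((Scheme.ΓSpecIso (CommRingCat.of A)).inv a), ?_⟩
      simp only [RingHom.comp_apply]
      rw [← hFg]
      have h1 : (f'.appLE ⊤ ⊤ le_top) ((Scheme.ΓSpecIso (CommRingCat.of C)).inv c) = F'.hom c := by
        exact congr(($(Scheme.Hom.appLE_eq_app f' (U := ⊤))).hom
          ((Scheme.ΓSpecIso (CommRingCat.of C)).inv c))
      change _ = Ideal.Quotient.mk I ((f'.appLE ⊤ ⊤ le_top)
        ((Scheme.ΓSpecIso (CommRingCat.of C)).inv c))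
      rw [h1, eq_comm, Ideal.Quotient.mk_eq_mk_iff_sub_mem, ← map_sub]
      exact Ideal.mem_map_of_mem _ ha
  have he'K : e' ∈ K := by rw [hK]; trivial
  obtain ⟨t, ht⟩ := he'K
  simp only [RingHom.comp_apply] at ht
  rw [Ideal.Quotient.mk_eq_mk_iff_sub_mem] at ht
  -- `I` vanishes at points of the closed fibre
  have hI : ∀ x' : f' ⁻¹' {(IsLocalRing.closedPoint C : PrimeSpectrum C)}, ∀ b ∈ I,
      X'.presheaf.germ ⊤ (x' : X') trivial b ∈ IsLocalRing.maximalIdeal _ := by
    rintro ⟨x', hx'⟩ b hb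
    have : I ≤ (IsLocalRing.maximalIdeal (X'.presheaf.stalk x')).comap
        (X'.presheaf.germ ⊤ x' trivial).hom := by
      rw [Ideal.map_le_iff_le_comap]
      intro c hc
      rw [Ideal.mem_comap, Ideal.mem_comap, IsLocalRing.mem_maximalIdeal]
      change ¬ IsUnit (X'.presheaf.germ ⊤ x' trivial (F'.hom c))
      rw [← Scheme.mem_basicOpen_top]
      have h3 : X'.basicOpen (F'.hom c) =
        f' ⁻¹ᵁ ((Spec (CommRingCat.of C)).basicOpen
          ((Scheme.ΓSpecIso (CommRingCat.of C)).inv c)) :=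
        (Scheme.preimage_basicOpen f' (U := ⊤) ((Scheme.ΓSpecIso (CommRingCat.of C)).inv c)).symm
      rw [h3, basicOpen_eq_of_affine]
      change f' x' ∉ PrimeSpectrum.basicOpen c
      rw [show f' x' = _ from hx']
      exact not_not.mpr hc
    exact this hb
  have key : ∀ x' : f' ⁻¹' {(IsLocalRing.closedPoint C : PrimeSpectrum C)},
      (x' : X') ∈ X'.basicOpen e' ↔ g x' ∈ X.basicOpen t := by
    intro x'
    have h1 : g x' ∈ X.basicOpen t ↔ (x' : X') ∈ X'.basicOpen (g.appTop.hom t) := by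
      have : g ⁻¹ᵁ X.basicOpen t = X'.basicOpen (g.appTop.hom t) :=
        Scheme.preimage_basicOpen g (U := ⊤) t
      rw [← this]
      rfl
    rw [h1, Scheme.mem_basicOpen_top, Scheme.mem_basicOpen_top]
    have h2 := hI x' _ ht
    rw [map_sub] at h2
    rw [← not_iff_not]
    have h3 : ∀ b, ¬ IsUnit (X'.presheaf.germ ⊤ (x' : X') trivial b) ↔
        X'.presheaf.germ ⊤ (x' : X') trivial b ∈ IsLocalRing.maximalIdeal _ :=
      fun b ↦ (IsLocalRing.mem_maximalIdeal _).symm
    rw [h3, h3]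
    constructor
    · intro h4
      have := Ideal.add_mem _ h2 h4
      rwa [sub_add_cancel] at this
    · intro h4
      have := Ideal.sub_mem _ h4 h2
      rwa [sub_sub_cancel] at this
  refine ⟨t, fun x ↦ ?_⟩
  obtain ⟨x, hx⟩ := x
  obtain ⟨x', hx1, hx2⟩ := Scheme.exists_preimage_of_isPullback H x
    (IsLocalRing.closedPoint C : PrimeSpectrum C) (by rw [show f x = _ from hx, hcl])
  subst hx1
  rw [← key ⟨x', hx2⟩, he']
  rfl

end Groth.Agent.UnramA.HenselClopen
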