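import Groth.Agent.S0499
import Groth.Agent.Sga2.IdemClopen
import Mathlib.AlgebraicGeometry.Morphisms.Proper
import Mathlib.AlgebraicGeometry.Fiber

/-!
# Separating points of the closed fibre of a proper scheme over a henselian local ring by clopens
-/

set_option autoImplicit false
open CategoryTheory CategoryTheory.Limits AlgebraicGeometry Opposite TopologicalSpace
universe u

namespace Groth.Agent.UnramA.HenselSeparate

/-- Different maximal ideals of a finite product of local rings are separated by an idempotent. -/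
lemma exists_idempotent_of_pi {ι : Type*} [Finite ι] (A : ι → Type*) [∀ i, CommRing (A i)]
    [∀ i, IsLocalRing (A i)] (P Q : Ideal (∀ i, A i)) [hP : P.IsMaximal] [hQ : Q.IsMaximal]
    (h : P ≠ Q) : ∃ e, e * e = e ∧ e ∉ P ∧ e ∈ Q := by
  classical
  cases nonempty_fintype ι
  have h1 : ∃ i, (Pi.single i 1 : ∀ i, A i) ∉ P := by
    by_contra hcon
    push Not at hcon
    apply hP.ne_top
    rw [Ideal.eq_top_iff_one]
    have : (1 : ∀ i, A i) = ∑ i, Pi.single i (1 : A i) := by
      ext j
      simp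
    rw [this]
    exact Ideal.sum_mem _ fun i _ ↦ hcon i
  obtain ⟨i, hi⟩ := h1
  refine ⟨Pi.single i 1, ?_, hi, ?_⟩
  · rw [← Pi.single_mul, one_mul]
  by_contra hQi
  -- members of P (resp. Q) have non unit i-th component
  have key : ∀ (I : Ideal (∀ i, A i)), (Pi.single i 1 : ∀ i, A i) ∉ I → ∀ x ∈ I,
      ¬ IsUnit (x i) := by
    intro I hI x hx hu
    apply hI
    obtain ⟨u, hu⟩ := hu
    have : (Pi.single i 1 : ∀ i, A i) = x * Pi.single i (↑u⁻¹ : A i) := by
      ext j
      by_cases hj : j = i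
      · subst hj
        simp [← hu]
      · simp [hj]
    rw [this]
    exact Ideal.mul_mem_right _ _ hx
  apply h
  refine hP.eq_of_le hQ.ne_top fun x hx ↦ ?_
  by_contra hxQ
  have := hQ.exists_inv hxQ
  obtain ⟨y, q, hq, hy⟩ := this
  have h2 := key Q hQi q hq
  have h3 := key P hi x hx
  have h4 : y i * x i + q i = 1 := congr_fun hy i
  have h5 : IsUnit (y i * x i + q i) := by rw [h4]; exact isUnit_one
  rcases IsLocalRing.isUnit_or_isUnit_of_isUnit_add h5 with h6 | h6
  · exact h3 (isUnit_of_mul_isUnit_right h6)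
  · exact h2 h6

/-- Different maximal ideals of a finite algebra over a henselian local ring are separated by an
idempotent. -/
lemma exists_idempotent_of_finite (R : Type u) [CommRing R] [HenselianLocalRing R] (S : Type u)
    [CommRing S] [Algebra R S] [Module.Finite R S] (P Q : Ideal S) [hP : P.IsMaximal]
    [hQ : Q.IsMaximal] (h : P ≠ Q) : ∃ e, e * e = e ∧ e ∉ P ∧ e ∈ Q := by
  obtain ⟨ι, _, A, _, hA, ⟨φ⟩⟩ := Groth.Agent.S0499.result R S
  have := hA
  have hP' : (P.comap (φ.symm : (∀ i, A i) →+* S)).IsMaximal :=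
    Ideal.comap_isMaximal_of_equiv φ.symm
  have hQ' : (Q.comap (φ.symm : (∀ i, A i) →+* S)).IsMaximal :=
    Ideal.comap_isMaximal_of_equiv φ.symm
  have hne : P.comap (φ.symm : (∀ i, A i) →+* S) ≠ Q.comap (φ.symm : (∀ i, A i) →+* S) := by
    intro heq
    apply h
    exact Ideal.comap_injective_of_surjective _ φ.symm.surjective heq
  obtain ⟨e, he, heP, heQ⟩ := exists_idempotent_of_pi A _ _ hne
  exact ⟨φ.symm e, by rw [← map_mul, he], heP, heQ⟩

/-- Let `X` be universally closed over a henselian local ring and `t` a global function. Points of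
the closed fibre separated by `t` (i.e. by the open subset where `t ≠ 0`) are separated by a clopen
subset of `X`. -/
lemma exists_isClopen_of_section (A : Type u) [CommRing A] [HenselianLocalRing A] {X : Scheme.{u}}
    (f : X ⟶ Spec (CommRingCat.of A)) [UniversallyClosed f] (t : Γ(X, ⊤)) (x y : X)
    (hx : f x = (IsLocalRing.closedPoint A : PrimeSpectrum A))
    (hy : f y = (IsLocalRing.closedPoint A : PrimeSpectrum A))
    (hxt : x ∈ X.basicOpen t) (hyt : y ∉ X.basicOpen t) :
    ∃ U : Set X, IsClopen U ∧ x ∈ U ∧ y ∉ U := by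
  let F := (Scheme.ΓSpecIso (CommRingCat.of A)).inv ≫ f.appTop
  have hF : F.hom.IsIntegral := by
    apply RingHom.isIntegral_respectsIso.2
      (e := (Scheme.ΓSpecIso (CommRingCat.of A)).symm.commRingCatIsoToRingEquiv)
    exact isIntegral_appTop_of_universallyClosed f
  algebraize [F.hom]
  have hint : Algebra.IsIntegral A Γ(X, ⊤) := ⟨hF⟩
  let S : Subalgebra A Γ(X, ⊤) := Algebra.adjoin A {t}
  have hfin : Module.Finite A S := by
    have := (hint.isIntegral t).fg_adjoin_singleton
    exact Module.Finite.iff_fg.mpr this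
  -- the maximal ideal of a point of the closed fibre
  have hprime : ∀ z : X, f z = (IsLocalRing.closedPoint A : PrimeSpectrum A) →
      ∃ P : Ideal S, P.IsMaximal ∧ ∀ b : S, b ∈ P ↔ z ∉ X.basicOpen (b : Γ(X, ⊤)) := by
    intro z hz
    let P₀ : Ideal Γ(X, ⊤) := (IsLocalRing.maximalIdeal (X.presheaf.stalk z)).comap
      (X.presheaf.germ ⊤ z trivial).hom
    have hP₀ : ∀ b, b ∈ P₀ ↔ z ∉ X.basicOpen b := by
      intro b
      rw [Scheme.mem_basicOpen_top]
      exact IsLocalRing.mem_maximalIdeal _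
    have hP₀p : P₀.IsPrime := Ideal.comap_isPrime _ _
    let P : Ideal S := P₀.comap (algebraMap S Γ(X, ⊤))
    have hPp : P.IsPrime := Ideal.comap_isPrime _ _
    refine ⟨P, ?_, fun b ↦ hP₀ _⟩
    have hint' : Algebra.IsIntegral A S := inferInstance
    apply Ideal.isMaximal_of_isIntegral_of_isMaximal_comap (R := A)
    have : P.comap (algebraMap A S) = IsLocalRing.maximalIdeal A := by
      ext a
      rw [Ideal.mem_comap, Ideal.mem_comap, hP₀]
      have h1 : (algebraMap S Γ(X, ⊤)) ((algebraMap A S) a) = f.appTop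
        ((Scheme.ΓSpecIso (CommRingCat.of A)).inv a) := rfl
      rw [h1]
      have h2 := Scheme.preimage_basicOpen f (U := ⊤)
        ((Scheme.ΓSpecIso (CommRingCat.of A)).inv a)
      have h3 : X.basicOpen (f.appTop ((Scheme.ΓSpecIso (CommRingCat.of A)).inv a)) =
        f ⁻¹ᵁ ((Spec (CommRingCat.of A)).basicOpen
          ((Scheme.ΓSpecIso (CommRingCat.of A)).inv a)) := h2.symm
      rw [h3, basicOpen_eq_of_affine]
      change f z ∉ PrimeSpectrum.basicOpen a ↔ _
      rw [hz]
      change ¬ (a ∉ IsLocalRing.maximalIdeal A) ↔ _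
      rw [not_not]
    rw [this]
    infer_instance
  obtain ⟨P, hP, hP'⟩ := hprime x hx
  obtain ⟨Q, hQ, hQ'⟩ := hprime y hy
  have ht : t ∈ S := Algebra.subset_adjoin rfl
  have hPQ : P ≠ Q := by
    intro h
    have h1 : (⟨t, ht⟩ : S) ∈ Q := (hQ' _).mpr hyt
    rw [← h, hP'] at h1
    exact h1 hxt
  obtain ⟨e, he, heP, heQ⟩ := exists_idempotent_of_finite A S P Q hPQ
  have he' : (e : Γ(X, ⊤)) * e = e := congr_arg Subtype.val he
  rw [hP', not_not] at heP
  rw [hQ'] at heQ
  refine ⟨X.basicOpen (e : Γ(X, ⊤)), ⟨?_, (X.basicOpen _).isOpen⟩, heP, heQ⟩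
  have : (X.basicOpen (e : Γ(X, ⊤)) : Set X) = (X.basicOpen (1 - e : Γ(X, ⊤)) : Set X)ᶜ := by
    have h1 := Groth.Agent.Sga2.IdemClopen.basicOpen_sup (e : Γ(X, ⊤))
    have h2 := Groth.Agent.Sga2.IdemClopen.basicOpen_inf he'
    have h3 : IsCompl (X.basicOpen (e : Γ(X, ⊤))) (X.basicOpen (1 - e : Γ(X, ⊤))) :=
      ⟨disjoint_iff.mpr h2, codisjoint_iff.mpr h1⟩
    ext z
    constructor
    · intro hz hz'
      have : z ∈ (X.basicOpen (e : Γ(X, ⊤)) ⊓ X.basicOpen (1 - e : Γ(X, ⊤)) : X.Opens) :=
        ⟨hz, hz'⟩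
      rw [h2] at this
      exact this
    · intro hz
      have : z ∈ (X.basicOpen (e : Γ(X, ⊤)) ⊔ X.basicOpen (1 - e : Γ(X, ⊤)) : X.Opens) := by
        rw [h1]; trivial
      rcases this with h | h
      · exact h
      · exact absurd h hz
  rw [this]
  exact (X.basicOpen _).isOpen.isClosed_compl

end Groth.Agent.UnramA.HenselSeparate
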