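import Groth.Agent.EtpbcB.BCCrit
import Groth.Agent.EtpbcB.FamSec
import Groth.Agent.Sga4A.BCIntegral

/-!
# Degree zero base change for integral morphisms

`isIso_baseChange0_of_bcsurj`: if `f` is universally closed and sections over geometric fibres of
`f` extend to étale neighbourhoods (`BCsurj f`), the degree zero base change map of `f` is an
isomorphism for every abelian étale sheaf.
-/

set_option autoImplicit false
set_option backward.isDefEq.respectTransparency.types false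
universe u

open CategoryTheory CategoryTheory.Limits AlgebraicGeometry Opposite

namespace Groth.Agent.UnramA.IntBC

open Groth.Agent.EtpbcB
open Groth.Agent.Sga4A

section Und

variable {X : Scheme.{u}}

/-- The underlying sheaf of sets of an abelian étale sheaf. -/
noncomputable def und (F : EtCoh.Ab X) : EtDesc.Sh X :=
  (sheafCompose X.smallEtaleTopology (forget AddCommGrpCat.{u + 1})).obj F

variable (F : EtCoh.Ab X) {Ω : Type u} [Field Ω] [IsSepClosed Ω]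

/-- A section of an abelian sheaf as a section of the underlying sheaf of sets. -/
def us {U : X.Etale} (s : EtCoh.sect F U) : EtDesc.sect (und F) U := s

theorem us_map {U V : X.Etale} (g : V ⟶ U) (s : EtCoh.sect F U) :
    (und F).obj.map g.op (us F s) = us F (F.obj.map g.op s) := rfl

theorem germ_eq_germ {ξ : Spec (.of Ω) ⟶ X} {U U' : X.Etale} (l : Spec (.of Ω) ⟶ U.left)
    (hl : l ≫ U.hom = ξ) (l' : Spec (.of Ω) ⟶ U'.left) (hl' : l' ≫ U'.hom = ξ)
    (s : EtCoh.sect F U) (s' : EtCoh.sect F U') :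
    Big.germ F l hl s = Big.germ F l' hl' s' ↔
      EtStalk.germ (und F) l hl (us F s) = EtStalk.germ (und F) l' hl' (us F s') := by
  let m : Spec (.of Ω) ⟶ (EtStalk.Fam.prodEt U U').left := pullback.lift l l' (hl.trans hl'.symm)
  have h1 : m ≫ (EtStalk.Fam.prodEtFst U U').left = l := pullback.lift_fst _ _ _
  have h2 : m ≫ (EtStalk.Fam.prodEtSnd U U').left = l' := pullback.lift_snd _ _ _
  have hm : m ≫ (EtStalk.Fam.prodEt U U').hom = ξ := by
    rw [← hl, ← h1, Category.assoc]; rfl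
  rw [← Big.germ_res' F (EtStalk.Fam.prodEtFst U U') m hm l hl h1 s,
    ← Big.germ_res' F (EtStalk.Fam.prodEtSnd U U') m hm l' hl' h2 s',
    ← EtStalk.germ_res' (und F) (EtStalk.Fam.prodEtFst U U') m hm l hl h1,
    ← EtStalk.germ_res' (und F) (EtStalk.Fam.prodEtSnd U U') m hm l' hl' h2,
    Big.germ_eq_iff, EtStalk.germ_eq_iff]
  rfl

/-- Comparison of stalks. -/
noncomputable def cmp (ξ : Spec (.of Ω) ⟶ X) (σ : Big.Stk F ξ) : EtStalk.Stk (und F) ξ :=
  EtStalk.germ (und F) (Big.exists_germ F σ).choose_spec.choose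
    (Big.exists_germ F σ).choose_spec.choose_spec.choose
    (us F (Big.exists_germ F σ).choose_spec.choose_spec.choose_spec.choose)

theorem cmp_germ {ξ : Spec (.of Ω) ⟶ X} {U : X.Etale} (l : Spec (.of Ω) ⟶ U.left)
    (hl : l ≫ U.hom = ξ) (s : EtCoh.sect F U) :
    cmp F ξ (Big.germ F l hl s) = EtStalk.germ (und F) l hl (us F s) :=
  (germ_eq_germ F _ _ _ _ _ _).1
    (Big.exists_germ F (Big.germ F l hl s)).choose_spec.choose_spec.choose_spec.choose_spec

theorem cmp_injective (ξ : Spec (.of Ω) ⟶ X) : Function.Injective (cmp F ξ) := by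
  intro σ τ h
  obtain ⟨U, l, hl, s, rfl⟩ := Big.exists_germ F σ
  obtain ⟨U', l', hl', s', rfl⟩ := Big.exists_germ F τ
  rw [cmp_germ, cmp_germ] at h
  exact (germ_eq_germ F _ _ _ _ _ _).2 h

/-- The family of the underlying sheaf of sets attached to a local family. -/
noncomputable def toFam {Z : Scheme.{u}} {q : Z ⟶ X} (v : Big.Fam F q) (hv : Big.IsLoc v) :
    EtStalk.Fam (und F) q where
  val η ξ h := cmp F ξ (v _ η ξ h)
  rep z := by
    obtain ⟨W, a, ha, w, V, b, hb, σ, hw, hσ⟩ := hv z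
    refine ⟨W, a, ha, w, hw, V, b, hb, us F σ, ?_⟩
    intro Ω _ _ ζ ξ h h'
    have h1 := Big.Fam.congr_fun hσ ζ (ξ := ξ) (by rw [← h, Category.assoc])
    rw [← cmp_germ]
    exact congrArg _ h1

theorem toFam_val {Z : Scheme.{u}} {q : Z ⟶ X} (v : Big.Fam F q) (hv : Big.IsLoc v)
    (η : Spec (.of Ω) ⟶ Z) (ξ : Spec (.of Ω) ⟶ X) (h : η ≫ q = ξ) :
    (toFam F v hv).val η ξ h = cmp F ξ (v Ω η ξ h) := rfl

end Und

section Main

variable {X Y X' Y' : Scheme.{u}} (f : X ⟶ Y) (g : Y' ⟶ Y) (f' : X' ⟶ Y') (g' : X' ⟶ X)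

theorem exists_nhd_of_closed {A B : Scheme.{u}} (p : A ⟶ B) (hp : IsClosedMap p) {S : Set A}
    (hS : IsOpen S) (b : B) (hb : ∀ a, p a = b → a ∈ S) :
    ∃ N : B.Opens, b ∈ N ∧ ∀ a, p a ∈ N → a ∈ S := by
  refine ⟨⟨(p '' Sᶜ)ᶜ, (hp _ hS.isClosed_compl).isOpen_compl⟩, ?_, ?_⟩
  · rintro ⟨a, ha, rfl⟩
    exact ha (hb a rfl)
  · intro a ha
    by_contra h
    exact ha ⟨a, h, rfl⟩

/-- A common geometric point of a fibre over a geometric point. -/
theorem exists_point {A B : Scheme.{u}} (p : A ⟶ B) {Ω : Type u} [Field Ω]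
    (m : Spec (.of Ω) ⟶ B) (a : A) (ha : p a = m default) :
    ∃ (Ω' : Type u) (_ : Field Ω') (_ : IsSepClosed Ω') (ζ : Spec (.of Ω') ⟶ A)
      (α : Spec (.of Ω') ⟶ Spec (.of Ω)), ζ ≫ p = α ≫ m ∧ ζ default = a := by
  obtain ⟨t, ht1, ht2⟩ := Scheme.Pullback.exists_preimage_pullback (f := p) (g := m) a default ha
  obtain ⟨Ω', _, _, τ, hτ⟩ := Big.exists_geomPoint _ t
  refine ⟨Ω', inferInstance, inferInstance, τ ≫ pullback.fst p m, τ ≫ pullback.snd p m, ?_, ?_⟩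
  · rw [Category.assoc, pullback.condition, Category.assoc]
  · rw [Scheme.Hom.comp_apply, hτ, ht1]

theorem surj_aux [UniversallyClosed f] (hf : EtStalk.BCsurj f) (h : IsPullback g' f' f g)
    (F : EtCoh.Ab X) (U : Y'.Etale) (v : Big.Fam F (((EtCoh.bc f').obj U).hom ≫ g'))
    (hv : Big.IsLoc v) (y : U.left) :
    ∃ (V : Y.Etale) (U' : Y'.Etale) (a : U' ⟶ U) (b : U' ⟶ (EtCoh.bc g).obj V)
        (σ : EtCoh.sect F ((EtCoh.bc f).obj V)) (y' : U'.left), a.left y' = y ∧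
        v.res ((EtCoh.bc f').map a).left (by rw [← Category.assoc, Big.et_w]) =
          (Big.fam σ).res (BCCrit.kap f g f' g' h.w b) (BCCrit.kap_hom f g f' g' h.w b) := by
  have : UniversallyClosed f' := MorphismProperty.of_isPullback h ‹_›
  obtain ⟨Ω, _, _, l, hl⟩ := Big.exists_geomPoint U.left y
  obtain ⟨ξ, hξ⟩ : ∃ ξ : Spec (.of Ω) ⟶ Y, ξ = l ≫ U.hom ≫ g := ⟨_, rfl⟩
  have hpq : pullback.fst f ξ ≫ f = pullback.snd f ξ ≫ ξ := pullback.condition
  have e0 : pullback.fst f ξ ≫ f = (pullback.snd f ξ ≫ l ≫ U.hom) ≫ g := by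
    rw [hpq, hξ]; simp only [Category.assoc]
  obtain ⟨q, hq1, hq2⟩ : ∃ q : pullback f ξ ⟶ X', q ≫ g' = pullback.fst f ξ ∧
      q ≫ f' = pullback.snd f ξ ≫ l ≫ U.hom :=
    ⟨h.lift _ _ e0, h.lift_fst _ _ e0, h.lift_snd _ _ e0⟩
  obtain ⟨κ, hκ1, hκ2⟩ : ∃ κ : pullback f ξ ⟶ ((EtCoh.bc f').obj U).left,
      κ ≫ Big.bcFst f' U = pullback.snd f ξ ≫ l ∧ κ ≫ ((EtCoh.bc f').obj U).hom = q :=
    ⟨pullback.lift (pullback.snd f ξ ≫ l) q (by rw [hq2, Category.assoc]),
      pullback.lift_fst _ _ _, pullback.lift_snd _ _ _⟩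
  have hκ : κ ≫ ((EtCoh.bc f').obj U).hom ≫ g' = pullback.fst f ξ := by
    rw [reassoc_of% hκ2, hq1]
  obtain ⟨V, l', hl', b, hb⟩ := hf (und F) Ω ξ (toFam F (v.res κ hκ) (hv.res κ hκ))
  -- the common refinement
  have el : l' ≫ V.hom = (l ≫ U.hom) ≫ g := by rw [hl', hξ, Category.assoc]
  obtain ⟨U₂, p1, p2, m, hm1, hm2⟩ : ∃ (U₂ : Y'.Etale) (p1 : U₂ ⟶ U) (p2 : U₂ ⟶ (EtCoh.bc g).obj V)
      (m : Spec (.of Ω) ⟶ U₂.left), m ≫ p1.left = l ∧
        m ≫ p2.left = Big.bcPt g (l ≫ U.hom) l' el :=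
    ⟨EtStalk.Fam.prodEt U ((EtCoh.bc g).obj V), EtStalk.Fam.prodEtFst U ((EtCoh.bc g).obj V),
      EtStalk.Fam.prodEtSnd U ((EtCoh.bc g).obj V),
      pullback.lift l (Big.bcPt g (l ≫ U.hom) l' el) (Big.bcPt_hom g (l ≫ U.hom) l' el).symm,
      pullback.lift_fst _ _ _, pullback.lift_snd _ _ _⟩
  have hmU : m ≫ U₂.hom = l ≫ U.hom := by rw [← Big.et_w p1, ← Category.assoc, hm1]
  have hv1 : Big.IsLoc (v.res ((EtCoh.bc f').map p1).left
      (q' := ((EtCoh.bc f').obj U₂).hom ≫ g') (by rw [← Category.assoc, Big.et_w])) := hv.res _ _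
  have hv2 : Big.IsLoc ((Big.fam (F := F) (V := (EtCoh.bc f).obj V) b).res
      (BCCrit.kap f g f' g' h.w p2) (BCCrit.kap_hom f g f' g' h.w p2)) :=
    (Big.isLoc_fam _).res _ _
  have hZc : UniversallyClosed (Big.bcFst f' U₂) :=
    MorphismProperty.of_isPullback (P := @UniversallyClosed) (Big.isPullback_bc f' U₂).flip ‹_›
  obtain ⟨N, hN, hNS⟩ := exists_nhd_of_closed (Big.bcFst f' U₂)
    (show IsClosedMap (Big.bcFst f' U₂) from Scheme.Hom.isClosedMap _)
    (hv1.isOpen_agree hv2) (m default) (by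
      intro z hz
      obtain ⟨Ω', _, _, ζ₁, α, hζα, rfl⟩ := exists_point (Big.bcFst f' U₂) m z hz
      have hζU : ζ₁ ≫ ((EtCoh.bc f').obj U₂).hom ≫ f' = α ≫ l ≫ U.hom :=
        (congrArg (ζ₁ ≫ ·) (Big.bc_condition f' U₂)).symm.trans
          ((Category.assoc _ _ _).symm.trans ((congrArg (· ≫ U₂.hom) hζα).trans
            ((Category.assoc _ _ _).trans (congrArg (α ≫ ·) hmU))))
      have hρf : (ζ₁ ≫ ((EtCoh.bc f').obj U₂).hom ≫ g') ≫ f = α ≫ ξ := by
        rw [Category.assoc, Category.assoc, h.w, hξ, ← Category.assoc l, ← Category.assoc α,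
          ← hζU]
        simp only [Category.assoc]
      obtain ⟨ζ, hζ1, hζ2⟩ : ∃ ζ : Spec (.of Ω') ⟶ pullback f ξ,
          ζ ≫ pullback.fst f ξ = ζ₁ ≫ ((EtCoh.bc f').obj U₂).hom ≫ g' ∧
          ζ ≫ pullback.snd f ξ = α :=
        ⟨pullback.lift _ _ hρf, pullback.lift_fst _ _ _, pullback.lift_snd _ _ _⟩
      have hκζ : ζ ≫ κ = ζ₁ ≫ ((EtCoh.bc f').map p1).left := by
        apply Big.hom_ext_bc
        · rw [Category.assoc, hκ1, ← Category.assoc, hζ2, Category.assoc, Big.bc_map_fst,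
            ← Category.assoc, hζα, Category.assoc, hm1]
        · rw [Category.assoc, hκ2, Category.assoc, Big.bc_map_hom]
          apply h.hom_ext
          · rw [Category.assoc, hq1, hζ1, Category.assoc]
          · rw [Category.assoc, hq2, ← Category.assoc, hζ2, Category.assoc, hζU]
      have e1 : (ζ ≫ pullback.snd f ξ ≫ l') ≫ V.hom =
          (ζ₁ ≫ ((EtCoh.bc f').obj U₂).hom ≫ g') ≫ f := by
        rw [hρf, ← Category.assoc ζ, hζ2, Category.assoc, hl']
      have hkap : Big.bcPt f (ζ₁ ≫ ((EtCoh.bc f').obj U₂).hom ≫ g') (ζ ≫ pullback.snd f ξ ≫ l') e1 =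
          ζ₁ ≫ BCCrit.kap f g f' g' h.w p2 := by
        apply Big.hom_ext_bc
        · rw [Big.bcPt_fst, Category.assoc, BCCrit.kap_fst, ← Category.assoc ζ, hζ2,
            ← Category.assoc ζ₁, hζα, Category.assoc, ← Category.assoc m, hm2, Big.bcPt_fst]
        · rw [Big.bcPt_hom, Category.assoc, BCCrit.kap_hom]
      have hb' := hb ζ (ζ₁ ≫ ((EtCoh.bc f').obj U₂).hom ≫ g') hζ1 e1
      refine hv1.mem_agree hv2 ζ₁ (ξ := ζ₁ ≫ ((EtCoh.bc f').obj U₂).hom ≫ g') rfl ?_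
      apply cmp_injective F
      rw [toFam_val] at hb'
      refine (congrArg (cmp F _) (v.congr hκζ.symm _)).trans (hb'.trans ?_)
      rw [Big.Fam.res_apply, Big.fam_apply, cmp_germ]
      exact BCIntegral.germ_congr (und F) hkap _ _ b)
  have hmap : ∀ {A B C : Y'.Etale} (c : A ⟶ B) (d : B ⟶ C), ((EtCoh.bc f').map (c ≫ d)).left =
      ((EtCoh.bc f').map c).left ≫ ((EtCoh.bc f').map d).left := by
    intro A B C c d
    rw [Functor.map_comp]; rfl
  obtain ⟨U₃, i, hi, u, hu⟩ : ∃ (U₃ : Y'.Etale) (i : U₃ ⟶ U₂) (_ : ∀ x, i.left x ∈ N) (u : U₃.left),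
      i.left u = m default :=
    ⟨EtStalk.openEt U₂ N, EtStalk.openEtι U₂ N, fun x => x.2, ⟨m default, hN⟩, rfl⟩
  refine ⟨V, U₃, i ≫ p1, i ≫ p2, b, u, ?_, ?_⟩
  · change (i.left ≫ p1.left) u = y
    rw [Scheme.Hom.comp_apply, hu, ← Scheme.Hom.comp_apply, hm1, hl]
  · have e2 : ((EtCoh.bc f').map i).left ≫ BCCrit.kap f g f' g' h.w p2 =
        BCCrit.kap f g f' g' h.w (i ≫ p2) := by
      apply Big.hom_ext_bc
      · rw [Category.assoc, BCCrit.kap_fst, BCCrit.kap_fst, ← Category.assoc, Big.bc_map_fst]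
        simp only [Category.assoc]
        rfl
      · rw [Category.assoc, BCCrit.kap_hom, BCCrit.kap_hom, ← Category.assoc, Big.et_w]
    ext Ω' _ _ l₁ ξ₁ hl₁
    have h3 := hNS ((l₁ ≫ ((EtCoh.bc f').map i).left) default) (by
      rw [← Scheme.Hom.comp_apply, Category.assoc, Big.bc_map_fst, ← Category.assoc,
        Scheme.Hom.comp_apply]
      exact hi _) Ω' (l₁ ≫ ((EtCoh.bc f').map i).left) ξ₁ (by
        rw [Category.assoc, ← Category.assoc _ _ g', Big.et_w, hl₁]) rfl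
    rw [Big.Fam.res_apply, Big.Fam.res_apply] at h3 ⊢
    rw [v.congr (show l₁ ≫ ((EtCoh.bc f').map (i ≫ p1)).left =
      (l₁ ≫ ((EtCoh.bc f').map i).left) ≫ ((EtCoh.bc f').map p1).left by
        rw [hmap, Category.assoc]), h3]
    exact (Big.fam _).congr (by rw [Category.assoc, e2]) _

theorem inj_aux [UniversallyClosed f] (h : IsPullback g' f' f g) (F : EtCoh.Ab X) (V : Y.Etale)
    (σ : EtCoh.sect F ((EtCoh.bc f).obj V)) (U : Y'.Etale) (b : U ⟶ (EtCoh.bc g).obj V)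
    (hσ : (Big.fam σ).res (BCCrit.kap f g f' g' h.w b) (BCCrit.kap_hom f g f' g' h.w b) =
      (Big.fam (0 : EtCoh.sect F ((EtCoh.bc f).obj V))).res (BCCrit.kap f g f' g' h.w b)
        (BCCrit.kap_hom f g f' g' h.w b)) (y : U.left) :
    ∃ (V' : Y.Etale) (c : V' ⟶ V) (U' : Y'.Etale) (a : U' ⟶ U)
      (b' : U' ⟶ (EtCoh.bc g).obj V') (y' : U'.left), a.left y' = y ∧
        a ≫ b = b' ≫ (EtCoh.bc g).map c ∧ F.obj.map ((EtCoh.bc f).map c).op σ = 0 := by
  have hσ1 : Big.IsLoc (Big.fam σ) := Big.isLoc_fam _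
  have hσ0 : Big.IsLoc (Big.fam (0 : EtCoh.sect F ((EtCoh.bc f).obj V))) := Big.isLoc_fam _
  have hZc : UniversallyClosed (Big.bcFst f V) :=
    MorphismProperty.of_isPullback (P := @UniversallyClosed) (Big.isPullback_bc f V).flip ‹_›
  obtain ⟨p, hp⟩ : ∃ p : U.left ⟶ V.left, p = b.left ≫ Big.bcFst g V := ⟨_, rfl⟩
  have hpU : p ≫ V.hom = U.hom ≫ g := by
    rw [hp, Category.assoc, Big.bc_condition, ← Category.assoc, Big.et_w]
  obtain ⟨N, hN, hNS⟩ := exists_nhd_of_closed (Big.bcFst f V)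
    (show IsClosedMap (Big.bcFst f V) from Scheme.Hom.isClosedMap _)
    (hσ1.isOpen_agree hσ0) (p y) (by
      intro z hz
      obtain ⟨t, ht1, ht2⟩ := Scheme.Pullback.exists_preimage_pullback (f := Big.bcFst f V)
        (g := p) z y hz
      obtain ⟨Ω, _, _, τ, hτ⟩ := Big.exists_geomPoint _ t
      obtain ⟨ζ, hζ⟩ : ∃ ζ, ζ = τ ≫ pullback.fst (Big.bcFst f V) p := ⟨_, rfl⟩
      obtain ⟨μ, hμ⟩ : ∃ μ, μ = τ ≫ pullback.snd (Big.bcFst f V) p := ⟨_, rfl⟩
      have hζμ : ζ ≫ Big.bcFst f V = μ ≫ p := by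
        rw [hζ, hμ, Category.assoc, pullback.condition, Category.assoc]
      have hζz : ζ default = z := by rw [hζ, Scheme.Hom.comp_apply, hτ, ht1]
      have e1 : (ζ ≫ ((EtCoh.bc f).obj V).hom) ≫ f = (μ ≫ U.hom) ≫ g := by
        rw [Category.assoc, ← Big.bc_condition, ← Category.assoc, hζμ, Category.assoc, hpU,
          Category.assoc]
      obtain ⟨x', hx1, hx2⟩ : ∃ x' : Spec (.of Ω) ⟶ X', x' ≫ g' = ζ ≫ ((EtCoh.bc f).obj V).hom ∧
          x' ≫ f' = μ ≫ U.hom :=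
        ⟨h.lift _ _ e1, h.lift_fst _ _ e1, h.lift_snd _ _ e1⟩
      have e2 : Big.bcPt f' x' μ hx2.symm ≫ BCCrit.kap f g f' g' h.w b = ζ := by
        apply Big.hom_ext_bc
        · rw [Category.assoc, BCCrit.kap_fst, Big.bcPt_fst_assoc, hζμ, hp]
        · rw [Category.assoc, BCCrit.kap_hom, Big.bcPt_hom_assoc, hx1]
      subst hζz
      refine hσ1.mem_agree hσ0 ζ (ξ := ζ ≫ ((EtCoh.bc f).obj V).hom) rfl ?_
      have h3 := Big.Fam.congr_fun hσ (Big.bcPt f' x' μ hx2.symm)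
        (ξ := ζ ≫ ((EtCoh.bc f).obj V).hom) (by rw [Big.bcPt_hom_assoc, hx1])
      rw [Big.Fam.res_apply, Big.Fam.res_apply] at h3
      exact ((Big.fam σ).congr e2.symm _).trans (h3.trans ((Big.fam _).congr e2 _)))
  obtain ⟨V', c, hc, U', a, ha, y', hy', r, hr⟩ : ∃ (V' : Y.Etale) (c : V' ⟶ V)
      (_ : ∀ x, c.left x ∈ N) (U' : Y'.Etale) (a : U' ⟶ U) (_ : True) (y' : U'.left)
      (_ : a.left y' = y) (r : U'.left ⟶ V'.left), r ≫ c.left = a.left ≫ p :=
    ⟨EtStalk.openEt V N, EtStalk.openEtι V N, fun x => x.2, EtStalk.openEt U (p ⁻¹ᵁ N),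
      EtStalk.openEtι U (p ⁻¹ᵁ N), trivial, ⟨y, hN⟩, rfl, p ∣_ N, morphismRestrict_ι p N⟩
  have hrU : r ≫ V'.hom = U'.hom ≫ g := by
    rw [← Big.et_w c, ← Category.assoc, hr, Category.assoc, hpU, ← Category.assoc, Big.et_w]
  obtain ⟨b', hb1, hb2⟩ : ∃ b' : U' ⟶ (EtCoh.bc g).obj V', b'.left ≫ Big.bcFst g V' = r ∧
      b'.left ≫ ((EtCoh.bc g).obj V').hom = U'.hom :=
    ⟨Big.etHom (pullback.lift r U'.hom hrU) (pullback.lift_snd _ _ _), pullback.lift_fst _ _ _,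
      pullback.lift_snd _ _ _⟩
  refine ⟨V', c, U', a, b', y', hy', ?_, ?_⟩
  · apply Big.et_hom_ext
    change a.left ≫ b.left = b'.left ≫ ((EtCoh.bc g).map c).left
    apply Big.hom_ext_bc
    · rw [Category.assoc, ← hp, Category.assoc, Big.bc_map_fst, ← Category.assoc, hb1, hr]
    · rw [Category.assoc, Big.et_w, Category.assoc, Big.bc_map_hom, hb2, Big.et_w]
  · apply FamSec.fam_ext
    have h0 : (0 : EtCoh.sect F ((EtCoh.bc f).obj V')) = F.obj.map ((EtCoh.bc f).map c).op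
      (0 : EtCoh.sect F ((EtCoh.bc f).obj V)) := (map_zero _).symm
    rw [h0, Big.fam_map, Big.fam_map]
    ext Ω _ _ l ξ hl
    rw [Big.Fam.res_apply, Big.Fam.res_apply]
    refine hNS _ ?_ Ω _ ξ _ rfl
    rw [← Scheme.Hom.comp_apply, Category.assoc, Big.bc_map_fst, ← Category.assoc,
      Scheme.Hom.comp_apply]
    exact hc _

/-- **Degree zero base change**: if `f` is universally closed and sections over the geometric fibres
of `f` extend to étale neighbourhoods, the base change map is an isomorphism. -/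
theorem isIso_baseChange0_of_bcsurj [UniversallyClosed f] (hf : EtStalk.BCsurj f)
    (h : IsPullback g' f' f g) (F : EtCoh.Ab X) : IsIso (EtCoh.baseChange0 f g f' g' h.w F) :=
  BCCrit.isIso_baseChange0_of_fam f g f' g' h.w F
    (fun V σ U b hσ y => inj_aux f g f' g' h F V σ U b hσ y)
    (fun U v hv y => surj_aux f g f' g' hf h F U v hv y)

/-- Degree zero base change for integral morphisms. -/
theorem isIso_baseChange0_of_isIntegralHom [IsIntegralHom f] (h : IsPullback g' f' f g)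
    (F : EtCoh.Ab X) : IsIso (EtCoh.baseChange0 f g f' g' h.w F) :=
  isIso_baseChange0_of_bcsurj f g f' g' (BCIntegral.bcsurj_of_isIntegralHom f) h F

end Main

end Groth.Agent.UnramA.IntBC
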