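import Groth.Agent.S0377
import Groth.Agent.S1772
import Groth.Agent.S0342
import Groth.Agent.S0330
import Groth.Agent.S1727
import Groth.Agent.Localalg.DGor
import Groth.Agent.Localalg.LCRows
import Groth.Agent.LoccohA.HTV
import Groth.Agent.LoccohA.CutoffLoc
import Groth.Agent.Sga2.CMCodim
import Groth.Agent.Ega4B.SkLift

/-!
# Finiteness of local cohomology over rings whose local rings have dualizing complexes

* `exists_dualizing_localization`: if `A` is a quotient of a regular ring then every `A_q` has a
  dualizing complex.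
* `finite_iff_cutoff_of_local`: if all `A_q` have dualizing complexes, then `H^i_I(M)` is finite for all
  `i ≤ n` iff `n < cutoff A I M` (Faltings finiteness).
* `cutoff_iff_covBy`: `n < cutoff A I M` iff `n ≤ depth M_p` for all `p ⋖ q`, `I ≤ q`, `¬ I ≤ p`.
-/

set_option autoImplicit false
universe u v
open CategoryTheory
attribute [local instance] HasDerivedCategory.standard

namespace Groth.Agent.UnramA.LCFinDual

open Groth.Agent.Ega4B.CatHeight

/-- Quotients of regular rings have local rings with dualizing complexes. -/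
theorem exists_dualizing_localization (R : Type u) [CommRing R] [IsRegularRing R] (A : Type u)
    [CommRing A] (π : R →+* A) (hπ : Function.Surjective π) (q : Ideal A) [q.IsPrime] :
    ∃ ω : Dual.D (Localization.AtPrime q), Dual.IsDualizing (Localization.AtPrime q) ω := by
  have h1 : IsRegularLocalRing (Localization.AtPrime (q.comap π)) := inferInstance
  have h2 : LocCoh.IsGorensteinLocalRing (Localization.AtPrime (q.comap π)) :=
    Groth.Agent.S0342.result _
  have h3 : Groth.Agent.S0377.HasDual (Localization.AtPrime (q.comap π)) :=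
    ⟨_, Groth.Agent.Localalg.DGor.isDualizing_of_gorenstein _⟩
  let f : Localization.AtPrime (q.comap π) →+* Localization.AtPrime q :=
    Localization.localRingHom (q.comap π) q π rfl
  have hf : Function.Surjective f := by
    intro x
    obtain ⟨a, s, rfl⟩ := IsLocalization.exists_mk'_eq q.primeCompl x
    obtain ⟨b, rfl⟩ := hπ a
    obtain ⟨t, ht⟩ := hπ s
    have ht' : t ∈ (q.comap π).primeCompl := by
      intro h
      exact s.2 (by rw [← ht]; exact h)
    refine ⟨IsLocalization.mk' _ b ⟨t, ht'⟩, ?_⟩
    change Localization.localRingHom (q.comap π) q π rfl _ = _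
    rw [Localization.localRingHom_mk']
    congr 1
    exact Subtype.ext ht
  algebraize [f]
  have : Module.Finite (Localization.AtPrime (q.comap π)) (Localization.AtPrime q) :=
    Module.Finite.of_surjective (Algebra.linearMap _ _) hf
  exact h3.of_finite

/-- Faltings' finiteness criterion when all local rings have dualizing complexes. -/
theorem finite_iff_cutoff_of_local (A : Type u) [CommRing A] [IsNoetherianRing A]
    (hA : ∀ (q : Ideal A) [q.IsPrime], ∃ ω : Dual.D (Localization.AtPrime q),
      Dual.IsDualizing (Localization.AtPrime q) ω)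
    (I : Ideal A) (M : Type u) [AddCommGroup M] [Module A M] [Module.Finite A M] (n : ℕ) :
    (∀ i : ℕ, i ≤ n → Module.Finite A (LocCoh.H I i M)) ↔ (n : ℕ∞) < Dual2.cutoff A I M := by
  rw [Groth.Agent.LoccohA.CutoffLoc.natCast_lt_cutoff_iff_forall_localization,
    Groth.Agent.S0330.result A I M n]
  constructor
  · intro h m
    have : IsNoetherianRing (Localization.AtPrime m.asIdeal) :=
      IsLocalization.isNoetherianRing m.asIdeal.primeCompl _ inferInstance
    have h1 : ∀ i : ℕ, i ≤ n → Module.Finite (Localization.AtPrime m.asIdeal)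
        (Dual2.HT (PrimeSpectrum.zeroLocus
          ((I.map (algebraMap A (Localization.AtPrime m.asIdeal)) :
            Ideal (Localization.AtPrime m.asIdeal)) : Set (Localization.AtPrime m.asIdeal))) i
          (LocalizedModule m.asIdeal.primeCompl M)) := by
      intro i hi
      have := h m.asIdeal i hi
      obtain ⟨e⟩ := Groth.Agent.Localalg.LCRows.nonempty_localizationEquiv I m.asIdeal.primeCompl i M
      exact Module.Finite.equiv (e.trans (Groth.Agent.LoccohA.HTV.equivH _ i _).symm)
    rw [Groth.Agent.S1727.result _ (hA m.asIdeal) _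
      (PrimeSpectrum.isClosed_zeroLocus _).stableUnderSpecialization] at h1
    rw [Groth.Agent.LoccohA.CutoffLoc.natCast_lt_cutoff_iff]
    intro p q hpq hp hq
    have h2 := h1 p q hp hq hpq
    rw [Groth.Agent.LoccohA.CutoffLoc.krullDim_Icc hpq] at h2
    exact_mod_cast h2
  · intro h p _ i hi
    have : IsNoetherianRing (Localization.AtPrime p) :=
      IsLocalization.isNoetherianRing p.primeCompl _ inferInstance
    obtain ⟨e⟩ := Groth.Agent.Localalg.LCRows.nonempty_localizationEquiv I p.primeCompl i M
    have h1 := h ⟨p, inferInstance⟩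
    rw [Groth.Agent.LoccohA.CutoffLoc.natCast_lt_cutoff_iff] at h1
    have h2 : ∀ i : ℕ, i ≤ n → Module.Finite (Localization.AtPrime p)
        (Dual2.HT (PrimeSpectrum.zeroLocus
          ((I.map (algebraMap A (Localization.AtPrime p)) :
            Ideal (Localization.AtPrime p)) : Set (Localization.AtPrime p))) i
          (LocalizedModule p.primeCompl M)) := by
      rw [Groth.Agent.S1727.result _ (hA p) _
        (PrimeSpectrum.isClosed_zeroLocus _).stableUnderSpecialization]
      intro P Q hP hQ hPQ
      rw [Groth.Agent.LoccohA.CutoffLoc.krullDim_Icc hPQ]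
      exact_mod_cast h1 P Q hPQ hP hQ
    have := h2 i hi
    exact Module.Finite.equiv ((Groth.Agent.LoccohA.HTV.equivH _ i _).trans e.symm)

/-- `depth M_q ≤ depth M_p + ht(q/p)` for `p ≤ q` (also when `M_p = 0`). -/
theorem depth_le_add_rlen {A : Type u} [CommRing A] [IsNoetherianRing A] (M : Type u)
    [AddCommGroup M] [Module A M] [Module.Finite A M] {p q : PrimeSpectrum A} (h : p ≤ q) :
    LocCoh.depth (Localization.AtPrime q.asIdeal) (LocalizedModule q.asIdeal.primeCompl M) ≤
      LocCoh.depth (Localization.AtPrime p.asIdeal) (LocalizedModule p.asIdeal.primeCompl M) +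
        rlen p q := by
  rcases subsingleton_or_nontrivial (LocalizedModule p.asIdeal.primeCompl M) with hs | hnt
  · have h0 : LocCoh.depth (Localization.AtPrime p.asIdeal)
        (LocalizedModule p.asIdeal.primeCompl M) = ⊤ :=
      Groth.Agent.CalgB.Depth1.depth_of_subsingleton
    rw [h0, top_add]
    exact le_top
  · have h1 := Groth.Agent.Ega4B.SkLift.depth_loc_le M p.asIdeal q.asIdeal h
    have hP := Groth.Agent.Ega4B.SkLift.isPrime_map_of_le p.asIdeal q.asIdeal h
    have h2 := Groth.Agent.Sga2.CMCodim.ringKrullDim_quotient_localization q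
      ⟨p.asIdeal.map (algebraMap A (Localization.AtPrime q.asIdeal)), hP⟩
    have h3 : PrimeSpectrum.comap (algebraMap A (Localization.AtPrime q.asIdeal))
        ⟨p.asIdeal.map (algebraMap A (Localization.AtPrime q.asIdeal)), hP⟩ = p := by
      ext1
      exact Groth.Agent.Ega4B.SkLift.comap_map_of_le p.asIdeal q.asIdeal h
    rw [h3] at h2
    change ringKrullDim (Localization.AtPrime q.asIdeal ⧸
      p.asIdeal.map (algebraMap A (Localization.AtPrime q.asIdeal))) = _ at h2
    rw [h2] at h1
    exact_mod_cast h1

theorem le_of_natCast_lt_add_one {n : ℕ} {a : ℕ∞} (h : (n : ℕ∞) < a + 1) :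
    (n : ℕ∞) ≤ a := by
  induction a with
  | top => exact le_top
  | coe a => exact_mod_cast Nat.lt_succ_iff.mp (by exact_mod_cast h)

/-- `n < cutoff A I M` iff `n ≤ depth M_p` for all `p ⋖ q`, `I ≤ q`, `¬ I ≤ p`. -/
theorem cutoff_iff_covBy {A : Type u} [CommRing A] [IsNoetherianRing A] (I : Ideal A) (M : Type u)
    [AddCommGroup M] [Module A M] [Module.Finite A M] (n : ℕ) :
    (n : ℕ∞) < Dual2.cutoff A I M ↔
      ∀ p q : PrimeSpectrum A, ¬ I ≤ p.asIdeal → I ≤ q.asIdeal → p ⋖ q →
        (n : ℕ∞) ≤ LocCoh.depth (Localization.AtPrime p.asIdeal)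
          (LocalizedModule p.asIdeal.primeCompl M) := by
  rw [Groth.Agent.LoccohA.CutoffLoc.natCast_lt_cutoff_iff]
  constructor
  · intro h p q hp hq hpq
    have h1 := h p q hpq.le hp hq
    rw [rlen_eq_one_of_covBy hpq] at h1
    exact le_of_natCast_lt_add_one h1
  · intro h p q hpq hp hq
    obtain ⟨p', q', h1, h2, h3, h4, h5⟩ := Groth.Agent.Sga2.CMCodim.exists_covBy hpq hq hp
    have h6 := h p' q' h4 h5 h2
    have h7 := depth_le_add_rlen M h1
    have h8 : rlen p p' + 1 ≤ rlen p q := by
      rw [← rlen_eq_one_of_covBy h2]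
      exact (rlen_add_le h1 h2.le).trans (le_self_add.trans (rlen_add_le (h1.trans h2.le) h3))
    generalize LocCoh.depth (Localization.AtPrime p.asIdeal)
      (LocalizedModule p.asIdeal.primeCompl M) = D at h7 ⊢
    have h9 : (n : ℕ∞) + 1 ≤ D + rlen p q := by
      refine (add_le_add_left (h6.trans h7) 1).trans ?_
      rw [add_assoc]
      exact add_le_add_right h8 D
    rwa [ENat.add_one_le_iff (ENat.natCast_ne_top n)] at h9

end Groth.Agent.UnramA.LCFinDual
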