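import Groth.Agent.UnramA.UnibranchLift
import Mathlib.RingTheory.Etale.Descent
import Mathlib.RingTheory.Smooth.Fiber
import Mathlib.RingTheory.Finiteness.ModuleFinitePresentation
import Mathlib.LinearAlgebra.Matrix.ToLin
import Mathlib.LinearAlgebra.Matrix.Nondegenerate
import Mathlib.LinearAlgebra.LinearIndependent.Basic
import Mathlib.LinearAlgebra.Basis.VectorSpace
import Mathlib.LinearAlgebra.Dimension.StrongRankCondition
import Mathlib.RingTheory.IntegralClosure.IntegrallyClosed
import Mathlib.RingTheory.Ideal.MinimalPrime.Basic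

/-!
Let `A` be a normal local domain with fraction field `K`, `Ω` an algebraic closure of `K`, `B` the
integral closure of `A` in `Ω`, `P` a maximal ideal of `B`, and `C` a finite torsion free
`A`-algebra with `dim_K (K ⊗ C) ≤ n`. If `C` has `n` distinct points with values in `B / P`, then
`C` is free of rank `n` and étale over `A`.
-/

set_option autoImplicit false
universe u v w

open scoped Pointwise TensorProduct

noncomputable section

namespace Groth.Agent.UnramA.NormalFiniteEtale

open UnibranchGalois UnibranchLift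

section

variable {A K Ω : Type*} [CommRing A] [Field K] [Field Ω] [Algebra A K] [Algebra K Ω]
  [Algebra A Ω] [IsScalarTower A K Ω]

lemma GU_of_isIntegrallyClosed [IsDomain A] [IsLocalRing A] [IsFractionRing A K]
    [IsIntegrallyClosed A] : GU A K := by
  intro x
  obtain ⟨a, ha⟩ := (IsIntegrallyClosed.isIntegral_iff (R := A) (K := K)).mp x.2
  refine ⟨0, a, fun M hM => ?_⟩
  have : x = algebraMap A _ a := Subtype.ext ha.symm
  rw [pow_zero, pow_one, this, sub_self]
  exact M.zero_mem

/-- An element of `K` which lies in `B_P` lies in `A`. -/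
lemma exists_of_mul_eq [Algebra.IsAlgebraic K Ω] [IsAlgClosed Ω] [IsDomain A] [IsLocalRing A]
    [IsFractionRing A K] [IsIntegrallyClosed A] (P : Ideal (B A Ω)) [P.IsMaximal] (a : K)
    (s b : B A Ω) (hs : s ∉ P) (h : algebraMap K Ω a * s = b) :
    ∃ a' : A, algebraMap A K a' = a := by
  have hGU : GU A K := GU_of_isIntegrallyClosed
  have : FaithfulSMul A K := (faithfulSMul_iff_algebraMap_injective _ _).mpr
    (IsFractionRing.injective A K)
  let I : Ideal (B A Ω) :=
    { carrier := {t | ∃ c : B A Ω, algebraMap K Ω a * t = c}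
      add_mem' := by
        rintro x y ⟨c, hc⟩ ⟨d, hd⟩
        exact ⟨c + d, by push_cast; rw [mul_add, hc, hd]⟩
      zero_mem' := ⟨0, by simp⟩
      smul_mem' := by
        rintro x y ⟨c, hc⟩
        exact ⟨x * c, by simp only [smul_eq_mul]; push_cast; rw [← hc]; ring⟩ }
  have hI : I = ⊤ := by
    by_contra hne
    obtain ⟨Q, hQ, hIQ⟩ := Ideal.exists_le_maximal I hne
    obtain ⟨g, rfl⟩ := GU.exists_smul_eq hGU P Q
    have h1 : g • s ∈ I := by
      refine ⟨g • b, ?_⟩
      have h2 := congrArg (fun z => g • z) h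
      simp only [smul_mul'] at h2
      have h3 : g • (algebraMap K Ω a) = algebraMap K Ω a := by
        rw [IsScalarTower.algebraMap_apply K (perfectClosure K Ω) Ω]
        exact g.commutes _
      rw [h3] at h2
      exact h2
    have h4 : g • s ∈ g • P := hIQ h1
    exact hs (Ideal.smul_mem_pointwise_smul_iff.mp h4)
  have h1 : (1 : B A Ω) ∈ I := by rw [hI]; trivial
  obtain ⟨c, hc⟩ := h1
  have hc' : IsIntegral A (algebraMap K Ω a) := by
    have : algebraMap K Ω a = c := by simpa using hc
    rw [this]; exact c.2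
  have : IsIntegral A a :=
    (isIntegral_algHom_iff (IsScalarTower.toAlgHom A K Ω) (algebraMap K Ω).injective).mp hc'
  exact (IsIntegrallyClosed.isIntegral_iff (R := A) (K := K)).mp this

end

/-- Distinct points of an algebra with values in a field are linearly independent, matrix form. -/
lemma exists_det_ne_zero {A C E : Type*} [CommRing A] [CommRing C] [Field E] [Algebra A C]
    [Algebra A E] (n : ℕ) (τ : Fin n → C →ₐ[A] E) (hτ : Function.Injective τ) :
    ∃ c : Fin n → C, (Matrix.of fun i j => τ i (c j)).det ≠ 0 := by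
  have hli : LinearIndependent E (fun i => (fun c => τ i c : C → E)) := by
    have h1 := linearIndependent_monoidHom C E
    have h2 : Function.Injective (fun i => ((τ i : C →ₐ[A] E) : C →* E)) := by
      intro i j hij
      refine hτ (AlgHom.ext fun c => ?_)
      exact DFunLike.congr_fun hij c
    exact h1.comp _ h2
  let v : C → (Fin n → E) := fun c i => τ i c
  have hspan : Submodule.span E (Set.range v) = ⊤ := by
    by_contra hne
    obtain ⟨ℓ, hℓ0, hℓ⟩ := Submodule.exists_le_ker_of_lt_top _ (lt_top_iff_ne_top.mpr hne)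
    refine hℓ0 ?_
    have h3 : ∀ c : C, ∑ i, ℓ (Pi.single i 1) * τ i c = 0 := by
      intro c
      have h4 : ℓ (v c) = 0 := hℓ (Submodule.subset_span ⟨c, rfl⟩)
      rw [pi_eq_sum_univ (v c)] at h4
      rw [map_sum] at h4
      rw [← h4]
      refine Finset.sum_congr rfl fun i _ => ?_
      rw [map_smul, smul_eq_mul, mul_comm]
      congr 2
      ext j
      simp [Pi.single_apply, eq_comm]
    have h5 : ∀ i, ℓ (Pi.single i 1) = 0 := by
      have := Fintype.linearIndependent_iff.mp hli (fun i => ℓ (Pi.single i 1)) (by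
        ext c
        simpa using h3 c)
      exact this
    refine LinearMap.pi_ext' fun i => LinearMap.ext_ring ?_
    simpa using h5 i
  obtain ⟨w, hw1, hw2, hw3⟩ := Submodule.exists_fun_fin_finrank_span_eq E (Set.range v)
  have hfr : Module.finrank E (Submodule.span E (Set.range v)) = n := by
    rw [hspan, finrank_top]; simp
  choose c' hc' using hw1
  refine ⟨fun j => c' (Fin.cast hfr.symm j), ?_⟩
  have hli' : LinearIndependent E (fun j : Fin n => w (Fin.cast hfr.symm j)) :=
    hw3.comp _ (Fin.cast_injective _)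
  have h6 : (Matrix.of fun i j : Fin n => τ i (c' (Fin.cast hfr.symm j))).transpose =
      Matrix.of (fun j => w (Fin.cast hfr.symm j)) := by
    ext j i
    simp only [Matrix.transpose_apply, Matrix.of_apply]
    exact congrFun (hc' _) i
  rw [← Matrix.det_transpose, h6]
  have h7 : LinearIndependent E (Matrix.of (fun j => w (Fin.cast hfr.symm j))).row := hli'
  have := Matrix.linearIndependent_rows_iff_isUnit.mp h7
  rw [Matrix.isUnit_iff_isUnit_det] at this
  exact this.ne_zero

/-- Points of a finite torsion free algebra with values in `B / P` lift to `B`. -/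
lemma exists_lift {A K Ω : Type*} [CommRing A] [Field K] [Field Ω] [Algebra A K] [Algebra K Ω]
    [Algebra A Ω] [IsScalarTower A K Ω] [Algebra.IsAlgebraic K Ω] [IsAlgClosed Ω]
    [IsDomain A] [IsLocalRing A] [IsFractionRing A K] (h : GU A K)
    (P : Ideal (B A Ω)) [P.IsMaximal] {C : Type*} [CommRing C] [Algebra A C] [Module.Finite A C]
    [Module.IsTorsionFree A C] (τ : C →ₐ[A] (B A Ω ⧸ P)) :
    ∃ σ : C →ₐ[A] B A Ω, ∀ c, Ideal.Quotient.mk P (σ c) = τ c := by
  have hpr : (RingHom.ker τ).IsPrime := RingHom.ker_isPrime _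
  obtain ⟨q, hq, hqp⟩ := Ideal.exists_minimalPrimes_le (I := (⊥ : Ideal C)) (J := RingHom.ker τ)
    bot_le
  have hqprime : q.IsPrime := hq.1.1
  let L := FractionRing (C ⧸ q)
  have hinj : Function.Injective (algebraMap A (C ⧸ q)) := by
    rw [injective_iff_map_eq_zero]
    intro a ha
    by_contra ha0
    rw [IsScalarTower.algebraMap_apply A C (C ⧸ q), Ideal.Quotient.algebraMap_eq,
      Ideal.Quotient.eq_zero_iff_mem] at ha
    refine notMem_nonZeroDivisors_of_mem_mem_minimalPrimes ha hq ?_
    rw [mem_nonZeroDivisors_iff_right]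
    intro x hx
    have hx' : a • x = 0 := by rw [Algebra.smul_def, mul_comm]; exact hx
    have hreg : IsSMulRegular C a := Module.IsTorsionFree.isSMulRegular
      (IsRegular.of_ne_zero ha0)
    exact hreg.right_eq_zero_of_smul hx'
  have : FaithfulSMul A L := by
    rw [faithfulSMul_iff_algebraMap_injective, IsScalarTower.algebraMap_eq A (C ⧸ q) L]
    exact (IsFractionRing.injective (C ⧸ q) L).comp hinj
  let φ : C →ₐ[A] L := (IsScalarTower.toAlgHom A (C ⧸ q) L).comp (Ideal.Quotient.mkₐ A q)
  have hφ : RingHom.ker φ ≤ RingHom.ker τ := by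
    intro x hx
    refine hqp ?_
    rw [RingHom.mem_ker] at hx
    have hx' : algebraMap (C ⧸ q) L (Ideal.Quotient.mk q x) = 0 := hx
    rw [map_eq_zero_iff _ (IsFractionRing.injective (C ⧸ q) L)] at hx'
    exact Ideal.Quotient.eq_zero_iff_mem.mp hx'
  obtain ⟨σ, hσ⟩ := h.exists_lift P (RingHom.ker τ) (fun z => ⟨1, by
    rw [RingHom.mem_ker, map_one]; exact one_ne_zero, isIntegral_one, by
    rw [one_mul]; exact Algebra.IsIntegral.isIntegral z⟩) φ hφ τ rfl
  have hσi : ∀ c, σ c ∈ integralClosure A Ω := fun c => (Algebra.IsIntegral.isIntegral c).map σ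
  refine ⟨σ.codRestrict _ hσi, fun c => ?_⟩
  obtain ⟨b, s, hs, h1, h2⟩ := hσ c
  have h3 : (σ.codRestrict (integralClosure A Ω) hσi c) * s = b := Subtype.ext h1
  rw [← h3, map_mul] at h2
  refine mul_right_cancel₀ ?_ h2
  rwa [Ne, Ideal.Quotient.eq_zero_iff_mem]

/-- A finite free algebra over a local ring with unramified fibre is étale. -/
lemma etale_of_fibre {A Ω : Type*} [CommRing A] [Field Ω] [Algebra A Ω] [IsLocalRing A]
    (P : Ideal (B A Ω)) [P.IsMaximal] (C : Type*) [CommRing C] [Algebra A C] [Module.Finite A C]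
    [Module.Free A C] [Algebra.FormallyUnramified (B A Ω ⧸ P) ((B A Ω ⧸ P) ⊗[A] C)] :
    Algebra.Etale A C := by
  let _ := Ideal.Quotient.field P
  let E := B A Ω ⧸ P
  have hfp : Algebra.FinitePresentation A C := by
    have : Module.FinitePresentation A C := Module.finitePresentation_of_projective A C
    exact Algebra.FinitePresentation.of_finitePresentation A C
  have hun : Algebra.FormallyUnramified A C := by
    constructor
    have h1 : Subsingleton (E ⊗[A] Ω[C⁄A]) :=
      letI : Algebra C (E ⊗[A] C) := Algebra.TensorProduct.rightAlgebra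
      (KaehlerDifferential.tensorKaehlerEquivBase A E C (E ⊗[A] C)).subsingleton
    let k := IsLocalRing.ResidueField A
    have hle : IsLocalRing.maximalIdeal A ≤ RingHom.ker (algebraMap A E) := by
      rw [← isMaximal_under P]
      intro a ha
      exact Ideal.Quotient.eq_zero_iff_mem.mpr ha
    let _ : Algebra k E := (Ideal.Quotient.lift _ (algebraMap A E) hle).toAlgebra
    have : IsScalarTower A k E := IsScalarTower.of_algebraMap_eq fun a => rfl
    have h2 : Subsingleton (E ⊗[k] (k ⊗[A] Ω[C⁄A])) :=
      (TensorProduct.AlgebraTensorModule.cancelBaseChange A k E E Ω[C⁄A]).subsingleton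
    rw [Module.FaithfullyFlat.subsingleton_tensorProduct_iff_right] at h2
    have : Module.Finite A Ω[C⁄A] := Module.Finite.trans C _
    exact (IsLocalRing.subsingleton_tensorProduct (R := A)).mp h2
  exact Algebra.Etale.of_formallyUnramified_of_flat

section main

variable {A K Ω : Type*} [CommRing A] [Field K] [Field Ω] [Algebra A K] [Algebra K Ω]
  [Algebra A Ω] [IsScalarTower A K Ω] [Algebra.IsAlgebraic K Ω] [IsAlgClosed Ω]
  [IsDomain A] [IsLocalRing A] [IsFractionRing A K] [IsIntegrallyClosed A]
  (P : Ideal (B A Ω)) [P.IsMaximal] (C : Type*) [CommRing C] [Algebra A C] [Module.Finite A C]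
  [Module.IsTorsionFree A C] (n : ℕ)

include Ω P in
theorem exists_basis (hn : Module.finrank K (K ⊗[A] C) ≤ n) (τ : Fin n → C →ₐ[A] (B A Ω ⧸ P))
    (hτ : Function.Injective τ) : ∃ b : Module.Basis (Fin n) A C,
      (Matrix.of fun i j => τ i (b j)).det ≠ 0 := by
  let _ := Ideal.Quotient.field P
  obtain ⟨c, hc⟩ := exists_det_ne_zero n τ hτ
  choose σ hσ using fun i => exists_lift (K := K) GU_of_isIntegrallyClosed P (τ i)
  let M : Matrix (Fin n) (Fin n) (B A Ω) := Matrix.of fun i j => σ i (c j)
  have hM : M.map (Ideal.Quotient.mk P) = Matrix.of fun i j => τ i (c j) := by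
    ext i j
    simp [M, hσ]
  have hdet : M.det ∉ P := by
    intro hmem
    refine hc ?_
    rw [← hM]
    change ((Ideal.Quotient.mk P).mapMatrix M).det = 0
    rw [← RingHom.map_det]
    exact Ideal.Quotient.eq_zero_iff_mem.mpr hmem
  have hdet0 : (M.det : Ω) ≠ 0 := by
    intro h0
    have : M.det = 0 := Subtype.ext h0
    exact hdet (by rw [this]; exact P.zero_mem)
  -- the points over `K`
  let σ' : Fin n → (K ⊗[A] C →ₐ[K] Ω) := fun i =>
    Algebra.TensorProduct.lift (Algebra.ofId K Ω) ((IsScalarTower.toAlgHom A (B A Ω) Ω).comp (σ i))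
      (fun _ _ => Commute.all _ _)
  have hσ' : ∀ i x, σ' i (1 ⊗ₜ x) = (σ i x : Ω) := by
    intro i x
    simp only [σ', Algebra.TensorProduct.lift_tmul, map_one, one_mul]
    rfl
  let MΩ : Matrix (Fin n) (Fin n) Ω := M.map (algebraMap (B A Ω) Ω)
  have hMΩ : MΩ.det = (M.det : Ω) := by
    change ((algebraMap (B A Ω) Ω).mapMatrix M).det = _
    rw [← RingHom.map_det]
    rfl
  have key : ∀ (a : Fin n → K) (x : C), ∑ j, a j • ((1 : K) ⊗ₜ[A] c j) = (1 : K) ⊗ₜ[A] x →
      ∀ j, algebraMap K Ω (a j) * (M.det : Ω) = ((M.adjugate.mulVec fun i => σ i x) j : B A Ω) := by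
    intro a x hax j
    have h1 : MΩ.mulVec (fun j => algebraMap K Ω (a j)) = fun i => (σ i x : Ω) := by
      ext i
      have := congrArg (σ' i) hax
      rw [map_sum, hσ'] at this
      rw [← this, Matrix.mulVec, dotProduct]
      refine Finset.sum_congr rfl fun j _ => ?_
      rw [map_smul, hσ', Algebra.smul_def, mul_comm]
      rfl
    have h2 := congrArg (fun v => MΩ.adjugate.mulVec v) h1
    simp only [Matrix.mulVec_mulVec, Matrix.adjugate_mul] at h2
    have h3 := congrFun h2 j
    rw [Matrix.smul_mulVec, Matrix.one_mulVec, Pi.smul_apply, smul_eq_mul, hMΩ, mul_comm] at h3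
    rw [h3]
    have h4 : MΩ.adjugate = M.adjugate.map (algebraMap (B A Ω) Ω) := by
      change ((algebraMap (B A Ω) Ω).mapMatrix M).adjugate = (algebraMap (B A Ω) Ω).mapMatrix _
      rw [RingHom.map_adjugate]
    rw [h4, Matrix.mulVec, dotProduct, Matrix.mulVec, dotProduct]
    push_cast
    rfl
  -- linear independence over `K`
  have hli : LinearIndependent K (fun j => (1 : K) ⊗ₜ[A] c j) := by
    rw [Fintype.linearIndependent_iff]
    intro a ha j
    have := key a 0 (by rw [ha, TensorProduct.tmul_zero]) j
    have h0 : (M.adjugate.mulVec fun i => σ i 0) = 0 := by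
      have : (fun i => σ i 0) = 0 := by ext i; simp
      rw [this, Matrix.mulVec_zero]
    rw [h0] at this
    simp only [Pi.zero_apply, ZeroMemClass.coe_zero, mul_eq_zero] at this
    rcases this with h | h
    · exact (map_eq_zero _).mp h
    · exact absurd h hdet0
  have hfr : Fintype.card (Fin n) = Module.finrank K (K ⊗[A] C) := by
    refine le_antisymm hli.fintype_card_le_finrank ?_
    rw [Fintype.card_fin]; exact hn
  have hinjC : Function.Injective (fun x : C => (1 : K) ⊗ₜ[A] x) := by
    intro x y hxy
    obtain ⟨s, hs⟩ := (IsLocalizedModule.eq_iff_exists (nonZeroDivisors A)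
      (TensorProduct.mk A K C 1)).mp hxy
    have hreg : IsSMulRegular C (s : A) := Module.IsTorsionFree.isSMulRegular
      (IsRegular.of_ne_zero (nonZeroDivisors.ne_zero s.2))
    exact hreg hs
  have hliA : LinearIndependent A c := by
    have h1 := hli.restrict_scalars (R := A) (by
      intro a b hab
      simp only [Algebra.smul_def, mul_one] at hab
      exact IsFractionRing.injective A K hab)
    exact LinearIndependent.of_comp (TensorProduct.mk A K C 1) h1
  have hsp : ⊤ ≤ Submodule.span A (Set.range c) := by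
    intro x _
    have hx : (1 : K) ⊗ₜ[A] x ∈ Submodule.span K (Set.range fun j => (1 : K) ⊗ₜ[A] c j) := by
      rw [hli.span_eq_top_of_card_eq_finrank' hfr]
      trivial
    obtain ⟨a, ha⟩ := (Submodule.mem_span_range_iff_exists_fun K).mp hx
    have h1 := key a x ha
    choose a' ha' using fun j => exists_of_mul_eq P (a j) M.det _ hdet (h1 j)
    have h2 : (1 : K) ⊗ₜ[A] (∑ j, a' j • c j) = (1 : K) ⊗ₜ[A] x := by
      rw [← ha, TensorProduct.tmul_sum]
      refine Finset.sum_congr rfl fun j _ => ?_
      rw [← ha' j, algebraMap_smul, TensorProduct.tmul_smul]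
    rw [← hinjC h2]
    exact Submodule.sum_mem _ fun j _ => Submodule.smul_mem _ _ (Submodule.subset_span ⟨j, rfl⟩)
  refine ⟨Module.Basis.mk hliA hsp, ?_⟩
  simpa using hc

include Ω P in
theorem free_and_etale (hn : Module.finrank K (K ⊗[A] C) ≤ n)
    (τ : Fin n → C →ₐ[A] (B A Ω ⧸ P)) (hτ : Function.Injective τ) :
    Module.Free A C ∧ Algebra.Etale A C := by
  obtain ⟨b, hb⟩ := exists_basis (K := K) P C n hn τ hτ
  have hfree : Module.Free A C := .of_basis b
  refine ⟨hfree, ?_⟩
  let _ := Ideal.Quotient.field P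
  let E := B A Ω ⧸ P
  let e : E ⊗[A] C →ₐ[E] (Fin n → E) := AlgHom.pi fun i =>
    Algebra.TensorProduct.lift (Algebra.ofId E E) (τ i) (fun _ _ => Commute.all _ _)
  have he : Function.Bijective e := by
    let bE := b.baseChange E
    have h2 : LinearMap.toMatrix bE (Pi.basisFun E (Fin n)) e.toLinearMap =
        Matrix.of fun i j => τ i (b j) := by
      ext i j
      simp [LinearMap.toMatrix_apply, bE, e]
    have h3 : IsUnit (LinearMap.toMatrix bE (Pi.basisFun E (Fin n)) e.toLinearMap).det := by
      rw [h2]; exact isUnit_iff_ne_zero.mpr hb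
    exact (LinearEquiv.ofIsUnitDet h3).bijective
  have hunE : Algebra.FormallyUnramified E (E ⊗[A] C) := by
    have : Algebra.FormallyUnramified E (Fin n → E) :=
      (Algebra.FormallyUnramified.pi_iff _).mpr fun _ => inferInstance
    exact Algebra.FormallyUnramified.of_equiv (AlgEquiv.ofBijective e he).symm
  exact etale_of_fibre P C

end main

end Groth.Agent.UnramA.NormalFiniteEtale
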